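import Cfsg.Agent.Lib.Perm.ItoDesign.Basic
import Cfsg.Agent.Lib.Char.Frobenius
import Mathlib.Data.Nat.Factors

/-!
# Axial automorphisms of the design: the elation group of a block
-/

set_option autoImplicit false
set_option linter.unusedSectionVars false

namespace CfsgLib.ItoDesign

open MulAction Finset

variable {G Ω X : Type*} [Group G] [MulAction G Ω] [MulAction G X] [Fintype Ω] [Fintype X]
  [DecidableEq Ω] [DecidableEq X] [FaithfulSMul G Ω] [Finite G]

namespace Dsgn

variable (D : Dsgn G Ω X)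

theorem lam_lt : D.lam < D.k := by have := D.lam_add_two; omega

theorem k_lt : D.k < Fintype.card Ω := by have := D.add_two_le; omega

theorem mem_blk_smul_iff (g : G) (x : Ω) (C : X) : x ∈ D.blk (g • C) ↔ g⁻¹ • x ∈ D.blk C := by
  rw [← D.smul_mem g (g⁻¹ • x) C, smul_inv_smul]

theorem blk_inj {C C' : X} (h : D.blk C = D.blk C') : C = C' := by
  by_contra hne
  have := D.card_inter C C' hne
  rw [h, Finset.inter_self, D.card_blk] at this
  exact D.lam_lt.ne this.symm

theorem blk_eq_of_subset {C C' : X} (h : D.blk C ⊆ D.blk C') : C = C' :=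
  D.blk_inj (Finset.eq_of_subset_of_card_le h (by rw [D.card_blk, D.card_blk]))

theorem smul_eq_self_of_mapsTo {g : G} {C : X} (h : ∀ x ∈ D.blk C, g • x ∈ D.blk C) : g • C = C :=
  D.blk_eq_of_subset fun x hx => by
    by_contra hxC
    have hb : D.blk C = (D.blk C).image (g • ·) :=
      (Finset.eq_of_subset_of_card_le (fun y hy => by
        obtain ⟨z, hz, rfl⟩ := Finset.mem_image.1 hy
        exact h z hz)
        (by rw [Finset.card_image_of_injective _ (MulAction.injective g)])).symm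
    rw [D.mem_blk_smul_iff] at hx
    refine hxC ?_
    rw [hb, Finset.mem_image]
    exact ⟨g⁻¹ • x, hx, smul_inv_smul g x⟩

theorem exists_mem_not_mem {x y : Ω} (h : x ≠ y) : ∃ C, x ∈ D.blk C ∧ y ∉ D.blk C := by
  by_contra hall
  push Not at hall
  have h1 := D.card_pair x y h
  rw [show (univ.filter fun C => x ∈ D.blk C ∧ y ∈ D.blk C) = univ.filter fun C => x ∈ D.blk C from
    Finset.filter_congr fun C _ => ⟨And.left, fun hx => ⟨hx, hall C hx⟩⟩, D.card_star] at h1
  exact D.lam_lt.ne h1.symm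

theorem exists_not_mem_blk (C : X) : ∃ x, x ∉ D.blk C := by
  by_contra hall
  push Not at hall
  have h1 : D.blk C = univ := Finset.eq_univ_of_forall hall
  have := D.card_blk C
  rw [h1, card_univ] at this
  exact D.k_lt.ne this.symm

theorem exists_mem_blk (C : X) : ∃ x, x ∈ D.blk C :=
  Finset.card_pos.1 (by rw [D.card_blk]; have := D.two_le; omega)

theorem exists_block_not_mem (x : Ω) : ∃ C, x ∉ D.blk C := by
  by_contra hall
  push Not at hall
  have := D.card_star x
  rw [Finset.filter_true_of_mem fun C _ => hall C, card_univ, D.card_eq] at this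
  exact D.k_lt.ne this.symm

include D in
theorem eq_one_of_fix_blocks {g : G} (h : ∀ C : X, g • C = C) : g = 1 := by
  refine eq_of_smul_eq_smul fun x : Ω => ?_
  rw [one_smul]
  by_contra hne
  obtain ⟨C, hC, hC'⟩ := D.exists_mem_not_mem hne
  exact hC' (by rw [← h C, D.mem_blk_smul_iff] at hC; rwa [inv_smul_smul] at hC)

/-- The pointwise stabiliser of a block. -/
def Ax (C : X) : Subgroup G where
  carrier := {g | ∀ x ∈ D.blk C, g • x = x}
  one_mem' x _ := one_smul G x
  mul_mem' := by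
    intro g g' hg hg' x hx
    rw [mul_smul, hg' x hx, hg x hx]
  inv_mem' := by
    intro g hg x hx
    rw [inv_smul_eq_iff, hg x hx]

theorem mem_ax {C : X} {g : G} : g ∈ D.Ax C ↔ ∀ x ∈ D.blk C, g • x = x := Iff.rfl

theorem ax_smul_self {C : X} {g : G} (h : g ∈ D.Ax C) : g • C = C :=
  D.smul_eq_self_of_mapsTo fun x hx => (h x hx).symm ▸ hx

theorem conj_mem_ax {C : X} {g h : G} (hh : h ∈ D.Ax C) : g * h * g⁻¹ ∈ D.Ax (g • C) := fun x hx => by
  rw [D.mem_blk_smul_iff] at hx
  rw [mul_smul, mul_smul, hh _ hx, smul_inv_smul]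

variable {D} {B : X} {h : G}

theorem inter_moved (hh : h ∈ D.Ax B) {C : X} (hC : h • C ≠ C) :
    D.blk C ∩ D.blk (h • C) = D.blk C ∩ D.blk B := by
  have hCB : C ≠ B := fun e => hC (e ▸ D.ax_smul_self hh)
  refine (Finset.eq_of_subset_of_card_le (fun x hx => ?_) (le_of_eq ?_)).symm
  · rw [Finset.mem_inter] at hx ⊢
    refine ⟨hx.1, ?_⟩
    rw [← hh x hx.2, D.smul_mem]
    exact hx.1
  · rw [D.card_inter _ _ (Ne.symm hC), D.card_inter _ _ hCB]

theorem mem_base_of_fixed (hh : h ∈ D.Ax B) {C : X} (hC : h • C ≠ C) {x : Ω} (hx : x ∈ D.blk C)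
    (hfx : h • x = x) : x ∈ D.blk B := by
  have : x ∈ D.blk C ∩ D.blk (h • C) := by
    rw [Finset.mem_inter]
    refine ⟨hx, ?_⟩
    rw [← hfx, D.smul_mem]
    exact hx
  rw [inter_moved hh hC, Finset.mem_inter] at this
  exact this.2

theorem not_mem_base_smul (hh : h ∈ D.Ax B) {x : Ω} (hx : x ∉ D.blk B) : h • x ∉ D.blk B := fun e =>
  hx (by rwa [← D.ax_smul_self hh, D.smul_mem] at e)

theorem fixed_of_pair (hh : h ∈ D.Ax B) {C : X} {y : Ω} (hy : h • y ≠ y) (h1 : y ∈ D.blk C)
    (h2 : h • y ∈ D.blk C) : h • C = C := by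
  by_contra hC
  have hyB : y ∉ D.blk B := fun e => hy (hh y e)
  have : h • y ∈ D.blk C ∩ D.blk (h • C) := Finset.mem_inter.2 ⟨h2, (D.smul_mem h y C).2 h1⟩
  rw [inter_moved hh hC, Finset.mem_inter] at this
  exact not_mem_base_smul hh hyB this.2

theorem filter_fixed_eq (hh : h ∈ D.Ax B) {y : Ω} (hy : h • y ≠ y) :
    (univ.filter fun C => y ∈ D.blk C ∧ h • C = C) =
      univ.filter fun C => y ∈ D.blk C ∧ h • y ∈ D.blk C := by
  refine Finset.filter_congr fun C _ => ⟨fun ⟨h1, h2⟩ => ⟨h1, ?_⟩,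
    fun ⟨h1, h2⟩ => ⟨h1, fixed_of_pair hh hy h1 h2⟩⟩
  rw [← h2, D.smul_mem]
  exact h1

theorem eq_of_two_fixed (hh : h ∈ D.Ax B) (h1 : h ≠ 1) {x x' : Ω} (hx : x ∉ D.blk B)
    (hx' : x' ∉ D.blk B) (hfx : h • x = x) (hfx' : h • x' = x') : x = x' := by
  by_contra hne
  have hstar : ∀ z, z ∉ D.blk B → h • z = z → ∀ C, z ∈ D.blk C → h • C = C := fun z hz hfz C hC => by
    by_contra hmv
    exact hz (mem_base_of_fixed hh hmv hC hfz)
  set P := univ.filter fun C => x ∈ D.blk C ∧ x' ∈ D.blk C with hP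
  have key : ∀ y, h • y ≠ y → ∀ z, z ∉ D.blk B → h • z = z →
      (univ.filter fun C => z ∈ D.blk C ∧ y ∈ D.blk C) =
        univ.filter fun C => y ∈ D.blk C ∧ h • y ∈ D.blk C := by
    intro y hy z hz hfz
    have hzy : z ≠ y := fun e => hy (e ▸ hfz)
    refine Finset.eq_of_subset_of_card_le (fun C hC => ?_) ?_
    · rw [← filter_fixed_eq hh hy]
      rw [mem_filter] at hC ⊢
      exact ⟨hC.1, hC.2.2, hstar z hz hfz C hC.2.1⟩
    · rw [D.card_pair _ _ hy.symm, D.card_pair _ _ hzy]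
  obtain ⟨y, hy⟩ : ∃ y : Ω, h • y ≠ y := by
    by_contra hall
    push Not at hall
    exact h1 (eq_of_smul_eq_smul fun z : Ω => by rw [one_smul, hall z])
  have keyP : ∀ y, h • y ≠ y →
      P = univ.filter fun C => y ∈ D.blk C ∧ h • y ∈ D.blk C := by
    intro y hy
    refine (Finset.eq_of_subset_of_card_le (fun C hC => ?_) ?_).symm
    · rw [mem_filter]
      refine ⟨mem_univ _, ?_, ?_⟩
      · rw [← key y hy x hx hfx, mem_filter] at hC; exact hC.2.1
      · rw [← key y hy x' hx' hfx', mem_filter] at hC; exact hC.2.1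
    · rw [D.card_pair _ _ hy.symm, hP, D.card_pair _ _ hne]
  have hall : ∀ C ∈ P, ∀ z, z ∉ D.blk B → z ∈ D.blk C := by
    intro C hC z hz
    by_cases hfz : h • z = z
    · rw [keyP y hy, ← key y hy z hz hfz, mem_filter] at hC
      exact hC.2.1
    · rw [keyP z hfz, mem_filter] at hC
      exact hC.2.1
  obtain ⟨C, hC⟩ : P.Nonempty := Finset.card_pos.1 (by
    rw [hP, D.card_pair _ _ hne]; exact D.one_le_lam)
  have hCB : C ≠ B := fun e => hx (e ▸ hall C hC x hx)
  have e1 : D.blk C \ D.blk B = univ \ D.blk B := by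
    ext z
    simp only [mem_sdiff, mem_univ, true_and]
    exact ⟨And.right, fun hz => ⟨hall C hC z hz, hz⟩⟩
  have e2 := congrArg Finset.card e1
  rw [Finset.card_sdiff, Finset.card_univ_sdiff, D.card_blk, D.card_blk, Finset.inter_comm,
    D.card_inter _ _ hCB] at e2
  have h3 : ((D.lam : ℤ)) * Fintype.card Ω + D.k = D.k * D.k + D.lam := by exact_mod_cast D.count
  have h4 : (Fintype.card Ω : ℤ) = 2 * D.k - D.lam := by have := D.k_lt; have := D.lam_lt; omega
  have h5 : (D.lam : ℤ) + 2 ≤ D.k := by exact_mod_cast D.lam_add_two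
  rw [h4] at h3
  nlinarith

theorem frobenius_transitive (B : X) {x₀ : Ω} (hx₀ : x₀ ∉ D.blk B) {h₀ : G} (hh₀ : h₀ ∈ D.Ax B)
    (h₀1 : h₀ ≠ 1) (hfx₀ : h₀ • x₀ = x₀) {y : Ω} (hy : y ∉ D.blk B) :
    ∃ g ∈ D.Ax B, g • x₀ = y := by
  classical
  by_contra hno
  push Not at hno
  set N := D.Ax B with hN
  let S : Ω → Subgroup G := fun x => N ⊓ stabilizer G x
  have hS : ∀ x y, x ∉ D.blk B → y ∉ D.blk B → Nat.card (S x) ≤ Nat.card (S y) := by
    intro x z hx hz
    obtain ⟨g, hgB, hgx⟩ := D.trans_out B x z hx hz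
    refine Nat.card_le_card_of_injective (fun s => (⟨g * (s : G) * g⁻¹, ?_, ?_⟩ : S z))
      fun s t e => Subtype.ext ?_
    · have := D.conj_mem_ax (g := g) s.2.1
      rwa [hgB] at this
    · show (g * (s : G) * g⁻¹) • z = z
      rw [mul_smul, mul_smul, ← hgx, inv_smul_smul, mem_stabilizer_iff.1 s.2.2]
    · have := congrArg Subtype.val e
      simpa using this
  set a := Nat.card (S x₀) with ha
  have hSeq : ∀ x, x ∉ D.blk B → Nat.card (S x) = a := fun x hx =>
    le_antisymm (hS x x₀ hx hx₀) (hS x₀ x hx₀ hx)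
  have ha2 : 2 ≤ a := by
    have : Nontrivial (S x₀) :=
      ⟨⟨h₀, hh₀, hfx₀⟩, 1, fun e => h₀1 (congrArg Subtype.val e)⟩
    exact Finite.one_lt_card
  have horb : ∀ x, x ∉ D.blk B → Nat.card (orbit N x) * a = Nat.card N := fun x hx => by
    rw [← hSeq x hx]
    have e : stabilizer N x ≃ S x :=
      { toFun := fun s => ⟨((s : N) : G), (s : N).2, mem_stabilizer_iff.2 s.2⟩
        invFun := fun s => ⟨⟨s, s.2.1⟩, mem_stabilizer_iff.2 s.2.2⟩
        left_inv := fun s => rfl
        right_inv := fun s => rfl }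
    rw [← Nat.card_congr e, ← Nat.card_prod]
    exact Nat.card_congr (orbitProdStabilizerEquivGroup N x)
  have hinj : (univ.filter fun x => x ∉ D.blk B).card * (a - 1) ≤ Nat.card N - 1 := by
    haveI := Fintype.ofFinite N
    let T : Ω → Finset N := fun x => univ.filter fun s => (s : G) • x = x ∧ s ≠ 1
    have hT : ∀ x, x ∉ D.blk B → (T x).card = a - 1 := by
      intro x hx
      have h1 : (univ.filter fun s : N => (s : G) • x = x).card = a := by
        rw [← hSeq x hx, ← Fintype.card_subtype, ← Nat.card_eq_fintype_card]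
        exact Nat.card_congr
          { toFun := fun s => ⟨((s : N) : G), (s : N).2, mem_stabilizer_iff.2 s.2⟩
            invFun := fun s => ⟨⟨s, s.2.1⟩, mem_stabilizer_iff.1 s.2.2⟩
            left_inv := fun s => rfl
            right_inv := fun s => rfl }
      rw [show T x = (univ.filter fun s : N => (s : G) • x = x).erase 1 by
        ext s; simp [T, and_comm], Finset.card_erase_of_mem (by simp), h1]
    have hdisj : ((univ.filter fun x => x ∉ D.blk B : Finset Ω) : Set Ω).PairwiseDisjoint T := by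
      intro x hx z hz hxz
      refine Finset.disjoint_left.2 fun s hs hs' => hxz ?_
      simp only [T, mem_filter, mem_univ, true_and, Finset.coe_filter, Set.mem_setOf_eq] at hx hz hs hs'
      exact eq_of_two_fixed s.2 (fun e => hs.2 (Subtype.ext e)) hx hz hs.1 hs'.1
    have h2 := Finset.card_le_card
      (show (univ.filter fun x => x ∉ D.blk B).biUnion T ⊆ (univ : Finset N).erase 1 from
        fun s hs => by
          simp only [T, Finset.mem_biUnion, mem_filter] at hs
          obtain ⟨x, -, hs⟩ := hs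
          simp [hs.2.2])
    rw [Finset.card_biUnion hdisj, Finset.sum_congr rfl (g := fun _ => a - 1)
      (fun x hx => hT x (mem_filter.1 hx).2), Finset.sum_const, smul_eq_mul,
      Finset.card_erase_of_mem (mem_univ _), card_univ, ← Nat.card_eq_fintype_card] at h2
    exact h2
  have h2s : Nat.card (orbit N x₀) + Nat.card (orbit N y) ≤ (univ.filter fun x => x ∉ D.blk B).card := by
    rw [Nat.card_eq_fintype_card, Nat.card_eq_fintype_card, ← Set.toFinset_card, ← Set.toFinset_card,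
      ← Finset.card_union_of_disjoint]
    · refine Finset.card_le_card fun z hz => ?_
      rw [Finset.mem_union, Set.mem_toFinset, Set.mem_toFinset] at hz
      rw [mem_filter]
      refine ⟨mem_univ _, ?_⟩
      rcases hz with ⟨g, rfl⟩ | ⟨g, rfl⟩
      · exact not_mem_base_smul g.2 hx₀
      · exact not_mem_base_smul g.2 hy
    · refine Finset.disjoint_left.2 fun z hz hz' => ?_
      rw [Set.mem_toFinset] at hz hz'
      obtain ⟨g, hg⟩ := hz
      obtain ⟨g', hg'⟩ := hz'
      refine hno ((g'⁻¹ * g : N) : G) (SetLike.coe_mem _) ?_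
      rw [Subgroup.coe_mul, mul_smul, Subgroup.coe_inv, inv_smul_eq_iff]
      exact hg.trans hg'.symm
  have e1 := horb x₀ hx₀
  have e2 := horb y hy
  have e3 : Nat.card (orbit N x₀) = Nat.card (orbit N y) :=
    Nat.eq_of_mul_eq_mul_right (by omega) (e1.trans e2.symm)
  have hs1 : 1 ≤ Nat.card (orbit N x₀) := by
    haveI : Nonempty (orbit N x₀) := ⟨⟨x₀, mem_orbit_self x₀⟩⟩
    exact Nat.card_pos
  have hN1 : 1 ≤ Nat.card N := Nat.card_pos
  obtain ⟨b, hb⟩ : ∃ b, a = b + 2 := ⟨a - 2, by omega⟩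
  have h4 : 2 * Nat.card (orbit N x₀) * (a - 1) ≤ Nat.card N - 1 :=
    le_trans (Nat.mul_le_mul_right _ (by omega)) hinj
  rw [hb, show b + 2 - 1 = b + 1 by omega] at h4
  rw [hb] at e1
  have h5 : 2 * Nat.card (orbit N x₀) * (b + 1) + 1 ≤ Nat.card N := by omega
  nlinarith

variable (D)

/-- An axial automorphism without fixed points off the axis, or the identity. -/
def IsEl (B : X) (h : G) : Prop := h ∈ D.Ax B ∧ (h = 1 ∨ ∀ x, x ∉ D.blk B → h • x ≠ x)

variable {D}

/-- There is a subgroup consisting of the elations with given axis; it is nontrivial. -/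
theorem exists_elation_group (B : X) :
    ∃ E : Subgroup G, (∀ h, h ∈ E ↔ D.IsEl B h) ∧ E ≠ ⊥ := by
  classical
  obtain ⟨g₁, hg₁, hg₁B⟩ := D.axial B
  by_cases hex : ∃ h ∈ D.Ax B, h ≠ 1 ∧ ∃ x, x ∉ D.blk B ∧ h • x = x
  · obtain ⟨h₀, hh₀, h₀1, x₀, hx₀, hfx₀⟩ := hex
    set N := D.Ax B with hN
    set P : Subgroup N := stabilizer N x₀ with hP
    have hPmem : ∀ (g s : N), g⁻¹ * s * g ∈ P ↔ (s : G) • ((g : G) • x₀) = (g : G) • x₀ := fun g s => by
      rw [hP, mem_stabilizer_iff, Subgroup.smul_def, Subgroup.coe_mul, Subgroup.coe_mul, mul_smul,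
        mul_smul, Subgroup.coe_inv, inv_smul_eq_iff]
    have hPne : P ≠ ⊥ := fun e => by
      have : (⟨h₀, hh₀⟩ : N) ∈ P := mem_stabilizer_iff.2 hfx₀
      rw [e, Subgroup.mem_bot] at this
      exact h₀1 (congrArg Subtype.val this)
    obtain ⟨y, hy, hyne⟩ : ∃ y, y ∉ D.blk B ∧ y ≠ x₀ := by
      by_contra hall
      push Not at hall
      have : univ \ D.blk B ⊆ {x₀} := fun z hz => mem_singleton.2 (hall z (mem_sdiff.1 hz).2)
      have := Finset.card_le_card this
      rw [Finset.card_univ_sdiff, D.card_blk, Finset.card_singleton] at this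
      have := D.add_two_le
      omega
    have hPtop : P ≠ ⊤ := fun e => by
      obtain ⟨g, hg, hgx⟩ := frobenius_transitive B hx₀ hh₀ h₀1 hfx₀ hy
      have : (⟨g, hg⟩ : N) ∈ P := e ▸ Subgroup.mem_top _
      exact hyne (hgx ▸ mem_stabilizer_iff.1 this)
    have hFrob : Cfsg.IsFrobeniusComplement P := by
      refine ⟨hPne, hPtop, fun g hg => ?_⟩
      rw [Subgroup.eq_bot_iff_forall]
      intro s hs
      rw [Subgroup.mem_inf, CfsgLib.Frobenius.mem_conj_smul, hPmem] at hs
      by_contra h1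
      refine hg (mem_stabilizer_iff.2 (eq_of_two_fixed s.2 (fun e => h1 (Subtype.ext e))
        (not_mem_base_smul g.2 hx₀) hx₀ hs.2 (mem_stabilizer_iff.1 hs.1)))
    haveI := Fintype.ofFinite N
    obtain ⟨K, hK, -, hcompl⟩ := CfsgLib.Frobenius.exists_normal_complement hFrob
    have hKmem : ∀ h : N, h ∈ K ↔ D.IsEl B h := by
      intro h
      rw [← SetLike.mem_coe, hK]
      constructor
      · rintro (rfl | hn)
        · exact ⟨one_mem _, .inl rfl⟩
        · refine ⟨h.2, .inr fun x hx e => ?_⟩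
          obtain ⟨g, hg, rfl⟩ := frobenius_transitive B hx₀ hh₀ h₀1 hfx₀ hx
          exact hn ⟨g, hg⟩ (CfsgLib.Frobenius.mem_conj_smul.2 ((hPmem ⟨g, hg⟩ h).2 e))
      · rintro ⟨-, h1 | h1⟩
        · exact .inl (Subtype.ext h1)
        · refine .inr fun g hg => ?_
          rw [CfsgLib.Frobenius.mem_conj_smul, hPmem] at hg
          exact h1 _ (not_mem_base_smul g.2 hx₀) hg
    refine ⟨K.map N.subtype, fun h => ?_, fun e => ?_⟩
    · rw [Subgroup.mem_map]
      exact ⟨fun ⟨s, hs, e⟩ => e ▸ (hKmem s).1 hs,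
        fun hh => ⟨⟨h, hh.1⟩, (hKmem _).2 hh, rfl⟩⟩
    · rw [Subgroup.map_eq_bot_iff_of_injective _ N.subtype_injective] at e
      subst e
      exact hPtop (Subgroup.isComplement'_bot_left.1 hcompl)
  · push Not at hex
    refine ⟨D.Ax B, fun h => ⟨fun hh => ⟨hh, ?_⟩, And.left⟩, fun e => hg₁ ?_⟩
    · by_cases h1 : h = 1
      · exact .inl h1
      · exact .inr (hex h hh h1)
    · rw [← Subgroup.mem_bot, ← e]
      exact hg₁B

variable (D)

/-- The elations with axis `B`. -/
noncomputable def El (B : X) : Subgroup G := (D.exists_elation_group B).choose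

theorem mem_el {B : X} {h : G} : h ∈ D.El B ↔ D.IsEl B h :=
  (D.exists_elation_group B).choose_spec.1 h

theorem el_ne_bot (B : X) : D.El B ≠ ⊥ := (D.exists_elation_group B).choose_spec.2

theorem el_fix {B : X} {h : G} (hh : h ∈ D.El B) {x : Ω} (hx : x ∈ D.blk B) : h • x = x :=
  (D.mem_el.1 hh).1 x hx

theorem el_ax {B : X} {h : G} (hh : h ∈ D.El B) : h ∈ D.Ax B := (D.mem_el.1 hh).1

theorem el_moves {B : X} {h : G} (hh : h ∈ D.El B) (h1 : h ≠ 1) {x : Ω} (hx : x ∉ D.blk B) :
    h • x ≠ x :=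
  (D.mem_el.1 hh).2.resolve_left h1 x hx

theorem el_fixed_iff {B : X} {h : G} (hh : h ∈ D.El B) (h1 : h ≠ 1) {x : Ω} :
    h • x = x ↔ x ∈ D.blk B :=
  ⟨fun e => by_contra fun hx => D.el_moves hh h1 hx e, D.el_fix hh⟩

theorem el_smul_self {B : X} {h : G} (hh : h ∈ D.El B) : h • B = B := D.ax_smul_self (D.el_ax hh)

theorem conj_mem_el {B : X} {g h : G} (hh : h ∈ D.El B) : g * h * g⁻¹ ∈ D.El (g • B) := by
  refine D.mem_el.2 ⟨D.conj_mem_ax (D.el_ax hh), ?_⟩
  by_cases h1 : h = 1
  · exact .inl (by simp [h1])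
  refine .inr fun x hx e => D.el_moves hh h1 (fun hm => hx ((D.mem_blk_smul_iff g x B).2 hm)) ?_
  rw [mul_smul, mul_smul, ← eq_inv_smul_iff] at e
  exact e

theorem card_fixed_blocks {B : X} {h : G} (hh : h ∈ D.El B) (h1 : h ≠ 1) :
    (univ.filter fun C : X => h • C = C).card = D.k := by
  rw [← Fintype.card_subtype, ← Nat.card_eq_fintype_card, ← D.fix_eq h, Nat.card_eq_fintype_card,
    Fintype.card_subtype]
  rw [show (univ.filter fun x : Ω => h • x = x) = D.blk B by ext x; simp [D.el_fixed_iff hh h1],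
    D.card_blk]

end Dsgn

end CfsgLib.ItoDesign
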