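import Mathlib.GroupTheory.GroupAction.MultipleTransitivity
import Mathlib.GroupTheory.GroupAction.Quotient
import Mathlib.Data.Fintype.EquivFin
import Mathlib.LinearAlgebra.Matrix.Trace
import Mathlib.Data.Matrix.Mul
import Mathlib.LinearAlgebra.Matrix.ToLin
import Mathlib.LinearAlgebra.Matrix.NonsingularInverse
import Mathlib.Algebra.Field.Rat
import Mathlib.Tactic.Linarith
import Mathlib.Tactic.LinearCombination
import Mathlib.Tactic.FieldSimp

/-!
# The symmetric design of a two-transitive group with an intransitive subgroup of index the degree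

The points are `Ω`, the blocks are the cosets of `H` and the block of the trivial coset is an
orbit of `H`.
-/

set_option autoImplicit false
set_option linter.unusedSectionVars false

namespace CfsgLib.ItoDesign

open MulAction Matrix Finset

/-- A symmetric design with a group of automorphisms which is two-transitive on points and on
blocks, has two orbits on points for each block stabiliser and nontrivial axial automorphisms. -/
structure Dsgn (G Ω X : Type*) [Group G] [MulAction G Ω] [MulAction G X] [Fintype Ω] [Fintype X]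
    [DecidableEq Ω] where
  blk : X → Finset Ω
  smul_mem : ∀ (g : G) (x : Ω) (C : X), g • x ∈ blk (g • C) ↔ x ∈ blk C
  k : ℕ
  lam : ℕ
  card_eq : Fintype.card X = Fintype.card Ω
  card_blk : ∀ C, (blk C).card = k
  card_star : ∀ x, (univ.filter fun C => x ∈ blk C).card = k
  card_inter : ∀ C D, C ≠ D → (blk C ∩ blk D).card = lam
  card_pair : ∀ x y, x ≠ y → (univ.filter fun C => x ∈ blk C ∧ y ∈ blk C).card = lam
  two_le : 2 ≤ k
  add_two_le : k + 2 ≤ Fintype.card Ω
  one_le_lam : 1 ≤ lam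
  lam_add_two : lam + 2 ≤ k
  count : lam * Fintype.card Ω + k = k * k + lam
  fix_eq : ∀ g : G, Nat.card {x : Ω // g • x = x} = Nat.card {C : X // g • C = C}
  twoTrans : ∀ a b c d : Ω, a ≠ b → c ≠ d → ∃ g : G, g • a = c ∧ g • b = d
  trans_in : ∀ C x y, x ∈ blk C → y ∈ blk C → ∃ g : G, g • C = C ∧ g • x = y
  trans_out : ∀ C x y, x ∉ blk C → y ∉ blk C → ∃ g : G, g • C = C ∧ g • x = y
  trans_blk : ∀ C D : X, ∃ g : G, g • C = D
  trans_blk_stab : ∀ C D D' : X, D ≠ C → D' ≠ C → ∃ g : G, g • C = C ∧ g • D = D'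
  axial : ∀ C, ∃ g : G, g ≠ 1 ∧ ∀ x ∈ blk C, g • x = x

/-- The matrix all of whose entries are one. -/
def allOnes (α β : Type*) : Matrix α β ℚ := Matrix.of fun _ _ => 1

/-- The incidence matrix. -/
def incMat {Ω X : Type*} [DecidableEq Ω] (blk : X → Finset Ω) : Matrix Ω X ℚ := Matrix.of fun x C => if x ∈ blk C then 1 else 0

theorem allOnes_apply {α β : Type*} (a : α) (b : β) : allOnes α β a b = 1 := rfl

theorem exists_eq_smul_one_add {G Ω : Type*} [Group G] [MulAction G Ω] [Fintype Ω] [DecidableEq Ω]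
    (h2 : ∀ a b c d : Ω, a ≠ b → c ≠ d → ∃ g : G, g • a = c ∧ g • b = d)
    (hn : 2 ≤ Fintype.card Ω) {A : Matrix Ω Ω ℚ}
    (hA : ∀ (g : G) x y, A (g • x) (g • y) = A x y) :
    ∃ a b : ℚ, A = a • (1 : Matrix Ω Ω ℚ) + b • allOnes Ω Ω := by
  obtain ⟨u, v, huv⟩ := Fintype.exists_pair_of_one_lt_card (α := Ω) (by omega)
  refine ⟨A u u - A u v, A u v, Matrix.ext fun x y => ?_⟩
  rw [Matrix.add_apply, Matrix.smul_apply, Matrix.smul_apply, allOnes_apply]
  by_cases hxy : x = y
  · subst hxy
    obtain ⟨w, hw⟩ : ∃ w, x ≠ w := by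
      by_cases h : x = u
      · exact ⟨v, h ▸ huv⟩
      · exact ⟨u, h⟩
    obtain ⟨g, hg, -⟩ := h2 u v x w huv hw
    rw [← hg, hA, Matrix.one_apply_eq, smul_eq_mul, smul_eq_mul]
    ring
  · obtain ⟨g, hg, hg'⟩ := h2 u v x y huv hxy
    rw [Matrix.one_apply_ne hxy, ← hg, ← hg', hA, smul_eq_mul, smul_eq_mul]
    ring

section

variable {G Ω X : Type*} [Group G] [MulAction G Ω] [MulAction G X] [Fintype Ω] [Fintype X]
  [DecidableEq Ω] [DecidableEq X]

theorem incMat_apply (blk : X → Finset Ω) (x : Ω) (C : X) :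
    incMat blk x C = if x ∈ blk C then 1 else 0 := rfl

variable {blk : X → Finset Ω} (hsm : ∀ (g : G) (x : Ω) (C : X), g • x ∈ blk (g • C) ↔ x ∈ blk C)

include hsm in
theorem incMat_smul (g : G) (x : Ω) (C : X) : incMat blk (g • x) (g • C) = incMat blk x C := by
  rw [incMat_apply, incMat_apply]
  simp only [hsm]

theorem incMat_mul_transpose_apply (blk : X → Finset Ω) (x y : Ω) :
    (incMat blk * (incMat blk)ᵀ) x y =
      ((univ.filter fun C => x ∈ blk C ∧ y ∈ blk C).card : ℚ) := by
  rw [Matrix.mul_apply, ← Finset.sum_boole]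
  refine Finset.sum_congr rfl fun C _ => ?_
  rw [Matrix.transpose_apply, incMat_apply, incMat_apply]
  by_cases h : x ∈ blk C <;> by_cases h' : y ∈ blk C <;> simp [h, h']

theorem incMat_transpose_mul_apply (blk : X → Finset Ω) (C D : X) :
    ((incMat blk)ᵀ * incMat blk) C D = ((blk C ∩ blk D).card : ℚ) := by
  rw [Matrix.mul_apply, show blk C ∩ blk D = univ.filter fun x => x ∈ blk C ∧ x ∈ blk D by
    ext x; simp, ← Finset.sum_boole]
  refine Finset.sum_congr rfl fun x _ => ?_
  rw [Matrix.transpose_apply, incMat_apply, incMat_apply]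
  by_cases h : x ∈ blk C <;> by_cases h' : x ∈ blk D <;> simp [h, h']

theorem allOnes_mul_incMat {k : ℕ} (hb : ∀ C, (blk C).card = k) :
    allOnes Ω Ω * incMat blk = (k : ℚ) • allOnes Ω X := by
  refine Matrix.ext fun x C => ?_
  rw [Matrix.mul_apply, Matrix.smul_apply, allOnes_apply, smul_eq_mul, mul_one, ← hb C]
  simp [allOnes_apply, incMat_apply]

theorem incMat_mul_allOnes {k : ℕ} (hs : ∀ x, (univ.filter fun C => x ∈ blk C).card = k) :
    incMat blk * allOnes X X = (k : ℚ) • allOnes Ω X := by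
  refine Matrix.ext fun x C => ?_
  rw [Matrix.mul_apply, Matrix.smul_apply, allOnes_apply, smul_eq_mul, mul_one, ← hs x]
  simp [allOnes_apply, incMat_apply]

variable (G) in
include hsm in
theorem card_star_eq (htr : ∀ a b : Ω, ∃ g : G, g • a = b) (x y : Ω) :
    (univ.filter fun C => x ∈ blk C).card = (univ.filter fun C => y ∈ blk C).card := by
  obtain ⟨g, rfl⟩ := htr x y
  refine Finset.card_bij (fun C _ => g • C) (fun C hC => ?_) (fun C _ C' _ e => smul_left_cancel g e)
    fun D hD => ⟨g⁻¹ • D, ?_, smul_inv_smul g D⟩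
  · simpa [hsm] using hC
  · rw [mem_filter] at hD ⊢
    refine ⟨mem_univ _, ?_⟩
    rw [← hsm g, smul_inv_smul]
    exact hD.2

variable (G) in
include hsm in
theorem card_pair_eq (h2 : ∀ a b c d : Ω, a ≠ b → c ≠ d → ∃ g : G, g • a = c ∧ g • b = d)
    {x y a b : Ω} (hxy : x ≠ y) (hab : a ≠ b) :
    (univ.filter fun C => x ∈ blk C ∧ y ∈ blk C).card =
      (univ.filter fun C => a ∈ blk C ∧ b ∈ blk C).card := by
  obtain ⟨g, rfl, rfl⟩ := h2 x y a b hxy hab
  refine Finset.card_bij (fun C _ => g • C) (fun C hC => ?_) (fun C _ C' _ e => smul_left_cancel g e)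
    fun D hD => ⟨g⁻¹ • D, ?_, smul_inv_smul g D⟩
  · simpa [hsm] using hC
  · rw [mem_filter] at hD ⊢
    refine ⟨mem_univ _, ?_⟩
    rw [← hsm g x, ← hsm g y, smul_inv_smul]
    exact hD.2

variable (G) in
include hsm in
/-- The numerical and spectral properties of a square two-transitive incidence structure. -/
theorem exists_params (h2 : ∀ a b c d : Ω, a ≠ b → c ≠ d → ∃ g : G, g • a = c ∧ g • b = d)
    (hX : Fintype.card X = Fintype.card Ω) {k : ℕ} (hb : ∀ C, (blk C).card = k) (hk : 2 ≤ k)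
    (hkn : k + 2 ≤ Fintype.card Ω) :
    (∀ x, (univ.filter fun C => x ∈ blk C).card = k) ∧
      ∃ lam : ℕ, 1 ≤ lam ∧ lam + 2 ≤ k ∧ lam * Fintype.card Ω + k = k * k + lam ∧
        (∀ x y, x ≠ y → (univ.filter fun C => x ∈ blk C ∧ y ∈ blk C).card = lam) ∧
        (∀ C D, C ≠ D → (blk C ∩ blk D).card = lam) ∧
        ∃ R : Matrix X Ω ℚ, R * incMat blk = 1 ∧ incMat blk * R = 1 ∧
          R * allOnes Ω Ω = (1 / k : ℚ) • allOnes X Ω := by
  obtain ⟨u, v, huv⟩ := Fintype.exists_pair_of_one_lt_card (α := Ω) (by omega)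
  have htr : ∀ a b : Ω, ∃ g : G, g • a = b := fun a b => by
    obtain ⟨a', ha'⟩ : ∃ a', a ≠ a' := by
      by_cases h : a = u
      · exact ⟨v, h ▸ huv⟩
      · exact ⟨u, h⟩
    obtain ⟨b', hb'⟩ : ∃ b', b ≠ b' := by
      by_cases h : b = u
      · exact ⟨v, h ▸ huv⟩
      · exact ⟨u, h⟩
    obtain ⟨g, hg, -⟩ := h2 a a' b b' ha' hb'
    exact ⟨g, hg⟩
  have hflag : ∑ x : Ω, (univ.filter fun C => x ∈ blk C).card = ∑ C : X, (blk C).card := by
    simp only [Finset.card_filter]
    rw [Finset.sum_comm]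
    simp
  have hstar : ∀ x, (univ.filter fun C => x ∈ blk C).card = k := fun x => by
    rw [Finset.sum_congr rfl (fun y _ => card_star_eq G hsm htr y x),
      Finset.sum_congr rfl (fun C _ => hb C), Finset.sum_const, Finset.sum_const, smul_eq_mul,
      smul_eq_mul, card_univ, card_univ, hX] at hflag
    exact Nat.eq_of_mul_eq_mul_left (by omega) hflag
  set lam := (univ.filter fun C => u ∈ blk C ∧ v ∈ blk C).card with hlam
  have hpair : ∀ x y, x ≠ y → (univ.filter fun C => x ∈ blk C ∧ y ∈ blk C).card = lam :=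
    fun x y h => card_pair_eq G hsm h2 h huv
  have hcount : lam * Fintype.card Ω + k = k * k + lam := by
    have h1 : ∑ y : Ω, (univ.filter fun C => u ∈ blk C ∧ y ∈ blk C).card =
        ∑ C ∈ univ.filter (fun C => u ∈ blk C), (blk C).card := by
      simp only [Finset.card_filter, Finset.sum_filter]
      rw [Finset.sum_comm]
      refine Finset.sum_congr rfl fun C _ => ?_
      by_cases h : u ∈ blk C <;> simp [h]
    rw [Finset.sum_congr rfl (fun C _ => hb C), Finset.sum_const, hstar, smul_eq_mul,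
      ← Finset.add_sum_erase _ _ (mem_univ u),
      Finset.sum_congr rfl (fun y hy => hpair u y (Finset.ne_of_mem_erase hy).symm),
      Finset.sum_const, Finset.card_erase_of_mem (mem_univ u), card_univ, smul_eq_mul] at h1
    simp only [and_self, hstar] at h1
    have : (Fintype.card Ω - 1) * lam + lam = lam * Fintype.card Ω := by
      rw [← Nat.succ_mul, Nat.succ_eq_add_one, Nat.sub_add_cancel (by omega), mul_comm]
    omega
  have hl2 : lam + 2 ≤ k := by
    by_contra h
    rcases Nat.eq_or_lt_of_le (show k ≤ lam + 1 by omega) with h' | h'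
    · have : lam * (k + 2) ≤ lam * Fintype.card Ω := Nat.mul_le_mul_left _ hkn
      rw [h'] at this hcount
      nlinarith
    · have : k * Fintype.card Ω ≤ lam * Fintype.card Ω := Nat.mul_le_mul_right _ (by omega)
      have : k * (k + 2) ≤ k * Fintype.card Ω := Nat.mul_le_mul_left _ hkn
      have : lam ≤ k := hlam ▸ (hstar u ▸ Finset.card_le_card fun C hC => by
        simp only [mem_filter] at hC ⊢
        exact ⟨hC.1, hC.2.1⟩)
      nlinarith
  have hl1 : 1 ≤ lam := by
    rcases Nat.eq_zero_or_pos lam with h | h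
    · rw [h] at hcount
      nlinarith
    · exact h
  refine ⟨hstar, lam, hl1, hl2, hcount, hpair, ?_⟩
  set M := incMat blk with hM
  set K : ℚ := (k : ℚ) - lam with hK
  have hK0 : 0 < K := by
    have : (lam : ℚ) + 2 ≤ k := by exact_mod_cast hl2
    rw [hK]; linarith
  have hMMt : M * Mᵀ = K • (1 : Matrix Ω Ω ℚ) + (lam : ℚ) • allOnes Ω Ω := by
    refine Matrix.ext fun x y => ?_
    rw [hM, incMat_mul_transpose_apply, Matrix.add_apply, Matrix.smul_apply, Matrix.smul_apply,
      allOnes_apply]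
    by_cases h : x = y
    · subst h
      simp [hstar, hK]
    · simp [hpair x y h, Matrix.one_apply_ne h]
  have hcQ : (lam : ℚ) * Fintype.card Ω + k = k * k + lam := by exact_mod_cast hcount
  have hk0 : (k : ℚ) ≠ 0 := Nat.cast_ne_zero.2 (by omega)
  have hJJ : allOnes Ω Ω * allOnes Ω Ω = (Fintype.card Ω : ℚ) • allOnes Ω Ω := by
    refine Matrix.ext fun x y => ?_
    simp [Matrix.mul_apply, allOnes_apply]
  set N : Matrix Ω Ω ℚ := (1 / K) • (1 : Matrix Ω Ω ℚ) + (-(lam : ℚ) / (K * (k * k))) • allOnes Ω Ω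
    with hN
  have hinv : (K • (1 : Matrix Ω Ω ℚ) + (lam : ℚ) • allOnes Ω Ω) * N = 1 := by
    rw [hN, add_mul, mul_add, mul_add, Matrix.smul_mul, Matrix.smul_mul, Matrix.smul_mul,
      Matrix.smul_mul, Matrix.mul_smul, Matrix.mul_smul, Matrix.mul_smul, Matrix.mul_smul, hJJ,
      Matrix.one_mul, Matrix.one_mul, Matrix.mul_one, smul_smul, smul_smul, smul_smul, smul_smul,
      smul_smul, add_assoc, ← add_smul, ← add_smul,
      mul_one_div_cancel hK0.ne', one_smul, add_eq_left]
    refine smul_eq_zero_of_left ?_ _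
    field_simp
    rw [hK]
    linear_combination (-(lam : ℚ)) * hcQ
  have hMR : M * (Mᵀ * N) = 1 := by rw [← Matrix.mul_assoc, hMMt, hinv]
  have hRM : (Mᵀ * N) * M = 1 := (Matrix.mul_eq_one_comm_of_equiv (Fintype.equivOfCardEq hX.symm)).1 hMR
  have hRJ : (Mᵀ * N) * allOnes Ω Ω = (1 / k : ℚ) • allOnes X Ω := by
    have h1 : M * allOnes X Ω = (k : ℚ) • allOnes Ω Ω := by
      refine Matrix.ext fun x y => ?_
      simp [hM, Matrix.mul_apply, allOnes_apply, incMat_apply, hstar x]
    have h2 := congrArg (Mᵀ * N * ·) h1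
    simp only [← Matrix.mul_assoc, hRM, Matrix.one_mul, Matrix.mul_smul] at h2
    rw [h2, smul_smul, one_div_mul_cancel hk0, one_smul]
  refine ⟨fun C D hCD => ?_, Mᵀ * N, hRM, hMR, hRJ⟩
  have h3 : Mᵀ * M = (Mᵀ * N) * (K • (1 : Matrix Ω Ω ℚ) + (lam : ℚ) • allOnes Ω Ω) * M := by
    rw [← hMMt, ← Matrix.mul_assoc (Mᵀ * N) M Mᵀ, hRM, Matrix.one_mul]
  have h4 : (Mᵀ * N) * allOnes Ω Ω * M = allOnes X X := by
    rw [hRJ, Matrix.smul_mul]
    refine Matrix.ext fun C D => ?_
    rw [Matrix.smul_apply, Matrix.mul_apply]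
    simp [hM, allOnes_apply, incMat_apply, hb D, hk0]
  have h5 : Mᵀ * M = K • (1 : Matrix X X ℚ) + (lam : ℚ) • allOnes X X := by
    rw [h3, Matrix.mul_add, Matrix.add_mul, Matrix.mul_smul, Matrix.mul_one, Matrix.mul_smul, Matrix.smul_mul,
      Matrix.smul_mul, h4, hRM]
  have h6 := congrFun (congrFun h5 C) D
  rw [hM, incMat_transpose_mul_apply, Matrix.add_apply, Matrix.smul_apply, Matrix.smul_apply,
    Matrix.one_apply_ne hCD, allOnes_apply] at h6
  simp only [smul_zero, mul_zero, zero_add, smul_eq_mul, mul_one] at h6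
  exact_mod_cast h6

include hsm in
theorem card_fixed_eq {R : Matrix X Ω ℚ} (hRM : R * incMat blk = 1) (hMR : incMat blk * R = 1)
    (g : G) : Nat.card {x : Ω // g • x = x} = Nat.card {C : X // g • C = C} := by
  set M := incMat blk
  let P : Matrix Ω Ω ℚ := Matrix.of fun x y => if g • y = x then 1 else 0
  let Q : Matrix X X ℚ := Matrix.of fun C D => if g • D = C then 1 else 0
  have hPQ : P * M = M * Q := by
    refine Matrix.ext fun x C => ?_
    rw [Matrix.mul_apply, Matrix.mul_apply, Finset.sum_eq_single (g⁻¹ • x),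
      Finset.sum_eq_single (g • C)]
    · simp only [P, Q, M, Matrix.of_apply, smul_inv_smul, if_true, one_mul, mul_one]
      rw [← incMat_smul hsm g, smul_inv_smul]
    · intro D _ hD
      simp [Q, Ne.symm hD]
    · simp
    · intro y _ hy
      have : ¬ g • y = x := fun e => hy (by rw [← e, inv_smul_smul])
      simp [P, this]
    · simp
  have hP : P.trace = (Nat.card {x : Ω // g • x = x} : ℚ) := by
    rw [Nat.card_eq_fintype_card, Fintype.card_subtype, ← Finset.sum_boole]
    rfl
  have hQ : Q.trace = (Nat.card {C : X // g • C = C} : ℚ) := by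
    rw [Nat.card_eq_fintype_card, Fintype.card_subtype, ← Finset.sum_boole]
    rfl
  have : P.trace = Q.trace := by
    calc P.trace = (P * M * R).trace := by rw [Matrix.mul_assoc, hMR, Matrix.mul_one]
      _ = (R * (M * Q)).trace := by rw [hPQ, Matrix.trace_mul_comm]
      _ = Q.trace := by rw [← Matrix.mul_assoc, hRM, Matrix.one_mul]
  rw [hP, hQ] at this
  exact_mod_cast this

variable (G) in
include hsm in
/-- An invariant set on the complement of a block is empty or the whole complement. -/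
theorem invariant_outside (h2 : ∀ a b c d : Ω, a ≠ b → c ≠ d → ∃ g : G, g • a = c ∧ g • b = d)
    (hn : 2 ≤ Fintype.card Ω) {k : ℕ} {lam : ℚ} (hb : ∀ C, (blk C).card = k)
    {R : Matrix X Ω ℚ} (hRM : R * incMat blk = 1) (hMR : incMat blk * R = 1)
    (hpair : incMat blk * (incMat blk)ᵀ = ((k : ℚ) - lam) • (1 : Matrix Ω Ω ℚ) + lam • allOnes Ω Ω)
    (hK : (k : ℚ) - lam ≠ 0) {O : X → Finset Ω}
    (hO : ∀ (g : G) (x : Ω) (C : X), g • x ∈ O (g • C) ↔ x ∈ O C)
    (hdis : ∀ C, Disjoint (O C) (blk C)) {C : X} {y : Ω} (hy : y ∈ O C) {z : Ω}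
    (hz : z ∉ blk C) : z ∈ O C := by
  set M := incMat blk with hMdef
  set MO := incMat O with hMOdef
  have hinv : ∀ (g : G) (x x' : Ω), (MO * Mᵀ) (g • x) (g • x') = (MO * Mᵀ) x x' := by
    intro g x x'
    rw [Matrix.mul_apply, Matrix.mul_apply]
    refine (Fintype.sum_equiv (MulAction.toPerm g : Equiv.Perm X) _ _ fun D => ?_).symm
    simp only [MulAction.toPerm_apply, Matrix.transpose_apply, hMdef, hMOdef, incMat_smul hO,
      incMat_smul hsm]
  obtain ⟨a, b, hab⟩ := exists_eq_smul_one_add h2 hn hinv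
  set K : ℚ := (k : ℚ) - lam with hKdef
  have hMt : Mᵀ * Rᵀ = 1 := by rw [← Matrix.transpose_mul, hRM, Matrix.transpose_one]
  have hR : K • Rᵀ + lam • (allOnes Ω Ω * Rᵀ) = M := by
    have := congrArg (· * Rᵀ) hpair
    simp only [Matrix.mul_assoc, hMt, Matrix.mul_one, Matrix.add_mul, Matrix.smul_mul, Matrix.one_mul] at this
    exact this.symm
  have hJR : (k : ℚ) • (allOnes Ω Ω * Rᵀ) = allOnes Ω X := by
    have h1 : allOnes Ω X * Mᵀ * Rᵀ = allOnes Ω X := by rw [Matrix.mul_assoc, hMt, Matrix.mul_one]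
    have h3 : ∀ x, (∑ D, M x D) = k := by
      intro x
      have h4 := congrFun (congrFun hpair x) x
      rw [Matrix.mul_apply, Matrix.add_apply, Matrix.smul_apply, Matrix.smul_apply,
        Matrix.one_apply_eq, allOnes_apply, smul_eq_mul, smul_eq_mul, mul_one, mul_one] at h4
      rw [show (k : ℚ) = K + lam by rw [hKdef]; ring, ← h4]
      refine Finset.sum_congr rfl fun D _ => ?_
      rw [Matrix.transpose_apply, hMdef, incMat_apply]
      by_cases h : x ∈ blk D <;> simp [h]
    have h5 : allOnes Ω X * Mᵀ = (k : ℚ) • allOnes Ω Ω := by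
      refine Matrix.ext fun x x' => ?_
      rw [Matrix.mul_apply, Matrix.smul_apply, allOnes_apply, smul_eq_mul, mul_one, ← h3 x']
      simp [allOnes_apply]
    rw [← Matrix.smul_mul, ← h5, h1]
  have hMO : MO = a • Rᵀ + b • (allOnes Ω Ω * Rᵀ) := by
    have := congrArg (· * Rᵀ) hab
    simp only [Matrix.mul_assoc, hMt, Matrix.mul_one, Matrix.add_mul, Matrix.smul_mul, Matrix.one_mul] at this
    exact this
  have hk0 : (k : ℚ) ≠ 0 := by
    intro h
    have hk' : k = 0 := by exact_mod_cast h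
    subst hk'
    have e : M = 0 := Matrix.ext fun x D => by
      simp [hMdef, incMat_apply, Finset.card_eq_zero.1 (hb D)]
    have h1 := congrFun (congrFun hMR y) y
    simp [e] at h1
  have e1 : ∀ x, (Rᵀ) x C = (M x C - lam * (1 / k)) / K := by
    intro x
    have h1 := congrFun (congrFun hR x) C
    have h2' := congrFun (congrFun hJR x) C
    rw [Matrix.smul_apply, allOnes_apply, smul_eq_mul] at h2'
    rw [Matrix.add_apply, Matrix.smul_apply, Matrix.smul_apply, smul_eq_mul, smul_eq_mul] at h1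
    rw [← h1]
    field_simp
    linear_combination -lam * h2'
  have e2 : ∀ x, x ∉ blk C → MO x C = -a * lam / (k * K) + b / k := by
    intro x hx
    have h2' := congrFun (congrFun hJR x) C
    rw [Matrix.smul_apply, allOnes_apply, smul_eq_mul] at h2'
    have h3 : (allOnes Ω Ω * Rᵀ) x C = 1 / k := by
      rw [eq_div_iff hk0, mul_comm]
      exact h2'
    have h0 : M x C = 0 := by rw [hMdef, incMat_apply, if_neg hx]
    rw [hMO, Matrix.add_apply, Matrix.smul_apply, Matrix.smul_apply, smul_eq_mul, smul_eq_mul, e1,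
      h3, h0]
    ring
  have hy' : y ∉ blk C := Finset.disjoint_left.1 (hdis C) hy
  have := (e2 z hz).trans (e2 y hy').symm
  rw [hMOdef, incMat_apply, incMat_apply, if_pos hy] at this
  by_contra hzO
  rw [if_neg hzO] at this
  exact zero_ne_one this

variable (G) in
include hsm in
/-- An invariant relation between distinct blocks is empty or total. -/
theorem invariant_blocks (h2 : ∀ a b c d : Ω, a ≠ b → c ≠ d → ∃ g : G, g • a = c ∧ g • b = d)
    (hn : 2 ≤ Fintype.card Ω) {k : ℕ}
    {R : Matrix X Ω ℚ} (hRM : R * incMat blk = 1) (hMR : incMat blk * R = 1)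
    (hRJ : R * allOnes Ω Ω = (1 / k : ℚ) • allOnes X Ω)
    {S : X → X → Prop} (hS : ∀ (g : G) (C D : X), S (g • C) (g • D) ↔ S C D)
    {C D C' D' : X} (hCD : C ≠ D) (hCD' : C' ≠ D') (h : S C D) : S C' D' := by
  classical
  set M := incMat blk with hMdef
  have hMt : Mᵀ * Rᵀ = 1 := by rw [← Matrix.transpose_mul, hRM, Matrix.transpose_one]
  have hJ : allOnes X Ω * Rᵀ = (1 / k : ℚ) • allOnes X X := by
    refine Matrix.ext fun C₁ C₂ => ?_
    have h1 : ∀ C₂ : X, (∑ x, R C₂ x) = 1 / k := by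
      intro C₂
      obtain ⟨u, v, -⟩ := Fintype.exists_pair_of_one_lt_card (α := Ω) (by omega)
      have h1 := congrFun (congrFun hRJ C₂) u
      simpa [Matrix.mul_apply, allOnes_apply] using h1
    rw [Matrix.mul_apply, Matrix.smul_apply, allOnes_apply, smul_eq_mul, mul_one, ← h1 C₂]
    simp [allOnes_apply]
  have key : ∀ A : Matrix X X ℚ, (∀ (g : G) C D, A (g • C) (g • D) = A C D) →
      ∃ a b : ℚ, A = a • (R * Rᵀ) + b • allOnes X X := by
    intro A hA
    have hinv : ∀ (g : G) (x x' : Ω), (M * A * Mᵀ) (g • x) (g • x') = (M * A * Mᵀ) x x' := by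
      intro g x x'
      rw [Matrix.mul_apply, Matrix.mul_apply]
      refine (Fintype.sum_equiv (MulAction.toPerm g : Equiv.Perm X) _ _ fun E => ?_).symm
      simp only [MulAction.toPerm_apply, Matrix.transpose_apply, hMdef, incMat_smul hsm,
        Matrix.mul_apply]
      congr 1
      refine Fintype.sum_equiv (MulAction.toPerm g : Equiv.Perm X) _ _ fun E' => ?_
      simp only [MulAction.toPerm_apply, incMat_smul hsm, hA]
    obtain ⟨a, b, hab⟩ := exists_eq_smul_one_add h2 hn hinv
    refine ⟨a, b * (1 / k) * (1 / k), ?_⟩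
    have h1 := congrArg (fun T => R * T * Rᵀ) hab
    simp only [Matrix.mul_add, Matrix.add_mul, Matrix.mul_smul, Matrix.smul_mul, Matrix.mul_one, hRJ, hJ] at h1
    rw [show R * (M * A * Mᵀ) * Rᵀ = A by
      calc R * (M * A * Mᵀ) * Rᵀ = (R * M) * A * (Mᵀ * Rᵀ) := by simp only [Matrix.mul_assoc]
        _ = A := by rw [hRM, hMt, Matrix.one_mul, Matrix.mul_one]] at h1
    rw [h1]
    simp only [smul_smul]
    congr 2
    ring
  obtain ⟨a₁, b₁, h1⟩ := key 1 fun g C D => by simp [Matrix.one_apply]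
  obtain ⟨a, b, hab⟩ := key (Matrix.of fun E F => if S E F then 1 else 0) fun g E F => by
    simp [hS]
  have ha₁ : a₁ ≠ 0 := by
    intro e
    subst e
    have e1 := congrFun (congrFun h1 C) C
    have e2 := congrFun (congrFun h1 C) D
    simp [Matrix.one_apply_ne hCD, allOnes_apply] at e1 e2
    simp [← e2] at e1
  have hval : ∀ E F : X, E ≠ F → (if S E F then 1 else 0 : ℚ) = b - a * b₁ / a₁ := by
    intro E F hEF
    have e1 := congrFun (congrFun h1 E) F
    have e2 := congrFun (congrFun hab E) F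
    rw [Matrix.one_apply_ne hEF, Matrix.add_apply, Matrix.smul_apply, Matrix.smul_apply,
      allOnes_apply, smul_eq_mul, smul_eq_mul, mul_one] at e1
    rw [Matrix.of_apply, Matrix.add_apply, Matrix.smul_apply, Matrix.smul_apply,
      allOnes_apply, smul_eq_mul, smul_eq_mul, mul_one] at e2
    rw [e2]
    field_simp
    linear_combination -a * e1
  by_contra hne
  have := (hval C D hCD).trans (hval C' D' hCD').symm
  rw [if_pos h, if_neg hne] at this
  exact one_ne_zero this

end

section Build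

variable {G Ω : Type*} [Group G] [Finite G] [MulAction G Ω] [FaithfulSMul G Ω] [Fintype Ω]
  [DecidableEq Ω]

/-- The design belonging to an intransitive subgroup of index the degree. -/
theorem exists_dsgn (h2 : MulAction.IsMultiplyPretransitive G Ω 2) (H : Subgroup G)
    [Fintype (G ⧸ H)] (hidx : H.index = Nat.card Ω) (hnt : ¬ MulAction.IsPretransitive H Ω)
    (hfix : ∀ a : Ω, ∃ h : H, h • a ≠ a)
    (hunf : ∃ a : Ω, ∃ h : H, h ≠ 1 ∧ ∀ b ∈ MulAction.orbit H a, h • b = b) :
    Nonempty (Dsgn G Ω (G ⧸ H)) := by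
  classical
  obtain ⟨a, h₀, hh₀, hh₀fix⟩ := hunf
  have h2' : ∀ x y c d : Ω, x ≠ y → c ≠ d → ∃ g : G, g • x = c ∧ g • y = d :=
    fun x y c d hxy hcd => MulAction.is_two_pretransitive_iff.1 h2 hxy hcd
  let blk : G ⧸ H → Finset Ω := fun C =>
    univ.filter fun x => ∃ g : G, (g : G ⧸ H) = C ∧ g⁻¹ • x ∈ MulAction.orbit H a
  have hblk : ∀ (g : G) (x : Ω), x ∈ blk (g : G ⧸ H) ↔ g⁻¹ • x ∈ MulAction.orbit H a := by
    intro g x
    simp only [blk, mem_filter, mem_univ, true_and]
    refine ⟨?_, fun h => ⟨g, rfl, h⟩⟩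
    rintro ⟨g', hg', h⟩
    have hm : g⁻¹ * g' ∈ H := QuotientGroup.eq.1 hg'.symm
    have h1 := MulAction.mem_orbit_of_mem_orbit (⟨g⁻¹ * g', hm⟩ : H) h
    rwa [Subgroup.mk_smul, mul_smul, smul_inv_smul] at h1
  have hsm : ∀ (g : G) (x : Ω) (C : G ⧸ H), g • x ∈ blk (g • C) ↔ x ∈ blk C := by
    intro g x C
    induction C using QuotientGroup.induction_on with
    | H c => rw [MulAction.Quotient.smul_coe, hblk, hblk, smul_eq_mul, _root_.mul_inv_rev, mul_smul,
        inv_smul_smul]
  set B := blk ((1 : G) : G ⧸ H) with hB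
  have hmemB : ∀ x, x ∈ B ↔ x ∈ MulAction.orbit H a := fun x => by rw [hB, hblk, inv_one, one_smul]
  have hHfix : ∀ g ∈ H, g • ((1 : G) : G ⧸ H) = ((1 : G) : G ⧸ H) := fun g hg => by
    rw [MulAction.Quotient.smul_coe, smul_eq_mul, mul_one, QuotientGroup.eq, mul_one]
    exact inv_mem hg
  have hcard : ∀ C, (blk C).card = B.card := by
    intro C
    induction C using QuotientGroup.induction_on with
    | H c =>
      refine Finset.card_bij (fun x _ => c⁻¹ • x) (fun x hx => ?_)
        (fun x _ y _ e => smul_left_cancel _ e) fun y hy => ⟨c • y, ?_, inv_smul_smul c y⟩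
      · rw [hmemB]; exact (hblk c x).1 hx
      · rw [hblk, inv_smul_smul]; exact (hmemB y).1 hy
  have haB : a ∈ B := (hmemB a).2 (MulAction.mem_orbit_self a)
  have hk : 2 ≤ B.card := by
    obtain ⟨h, hh⟩ := hfix a
    exact Finset.one_lt_card.2 ⟨h • a, (hmemB _).2 (MulAction.mem_orbit a h), a, haB, hh⟩
  obtain ⟨y, hy⟩ : ∃ y, y ∉ B := by
    by_contra hall
    push Not at hall
    exact hnt ⟨fun x x' => by
      obtain ⟨h, hh⟩ := (hmemB x).1 (hall x)
      obtain ⟨h', hh'⟩ := (hmemB x').1 (hall x')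
      exact ⟨h' * h⁻¹, by dsimp only at hh hh'; rw [mul_smul, ← hh, inv_smul_smul, hh']⟩⟩
  have hkn : B.card + 2 ≤ Fintype.card Ω := by
    obtain ⟨h, hh⟩ := hfix y
    have hhy : h • y ∉ B := fun e => hy ((hmemB y).2 (by
      have := MulAction.mem_orbit_of_mem_orbit h⁻¹ ((hmemB _).1 e)
      rwa [inv_smul_smul] at this))
    have hsub : B ⊆ univ \ {y, h • y} := fun x hx => by
      simp only [mem_sdiff, mem_univ, true_and, mem_insert, mem_singleton]
      rintro (rfl | rfl)
      · exact hy hx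
      · exact hhy hx
    have := Finset.card_le_card hsub
    rw [Finset.card_univ_sdiff, Finset.card_pair (Ne.symm hh)] at this
    omega
  have hX : Fintype.card (G ⧸ H) = Fintype.card Ω := by
    rw [← Nat.card_eq_fintype_card, ← Nat.card_eq_fintype_card, ← hidx, Subgroup.index]
  obtain ⟨hstar, lam, hl1, hl2, hcount, hpair, hinter, R, hRM, hMR, hRJ⟩ :=
    exists_params G hsm h2' hX hcard hk hkn
  have hMMt : incMat blk * (incMat blk)ᵀ =
      ((B.card : ℚ) - (lam : ℚ)) • (1 : Matrix Ω Ω ℚ) + (lam : ℚ) • allOnes Ω Ω := by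
    refine Matrix.ext fun u v => ?_
    rw [incMat_mul_transpose_apply, Matrix.add_apply, Matrix.smul_apply, Matrix.smul_apply,
      allOnes_apply]
    by_cases h : u = v
    · subst h
      simp [hstar]
    · simp [hpair u v h, Matrix.one_apply_ne h]
  have hK : (B.card : ℚ) - (lam : ℚ) ≠ 0 := by
    have : (lam : ℚ) + 2 ≤ B.card := by exact_mod_cast hl2
    intro h; linarith
  refine ⟨{
    blk := blk
    smul_mem := hsm
    k := B.card
    lam := lam
    card_eq := hX
    card_blk := hcard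
    card_star := hstar
    card_inter := hinter
    card_pair := hpair
    two_le := hk
    add_two_le := hkn
    one_le_lam := hl1
    lam_add_two := hl2
    count := hcount
    fix_eq := card_fixed_eq hsm hRM hMR
    twoTrans := h2'
    trans_in := ?_
    trans_out := ?_
    trans_blk := fun C D => MulAction.exists_smul_eq G C D
    trans_blk_stab := ?_
    axial := ?_ }⟩
  · intro C x x' hx hx'
    induction C using QuotientGroup.induction_on with
    | H c =>
      obtain ⟨h, hh⟩ := (hblk c x).1 hx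
      obtain ⟨h', hh'⟩ := (hblk c x').1 hx'
      refine ⟨c * ((h' * h⁻¹ : H) : G) * c⁻¹, ?_, ?_⟩
      · rw [MulAction.Quotient.smul_coe, smul_eq_mul, inv_mul_cancel_right, QuotientGroup.eq]
        simpa using H.mul_mem h.2 (H.inv_mem h'.2)
      · dsimp only at hh hh'
        rw [mul_smul, mul_smul, ← hh, ← Subgroup.smul_def, mul_smul, inv_smul_smul, hh',
          smul_inv_smul]
  · intro C x x' hx hx'
    let O : G ⧸ H → Finset Ω := fun D =>
      univ.filter fun z => ∃ g : G, g • C = D ∧ g • x = z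
    have hO : ∀ (g : G) (z : Ω) (D : G ⧸ H), g • z ∈ O (g • D) ↔ z ∈ O D := by
      intro g z D
      simp only [O, mem_filter, mem_univ, true_and]
      constructor
      · rintro ⟨f, hf, hf'⟩
        exact ⟨g⁻¹ * f, by rw [mul_smul, hf, inv_smul_smul], by rw [mul_smul, hf', inv_smul_smul]⟩
      · rintro ⟨f, rfl, rfl⟩
        exact ⟨g * f, mul_smul .., mul_smul ..⟩
    have hdis : ∀ D, Disjoint (O D) (blk D) := fun D => Finset.disjoint_left.2 fun z hz hz' => by
      simp only [O, mem_filter, mem_univ, true_and] at hz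
      obtain ⟨f, rfl, rfl⟩ := hz
      exact hx ((hsm f x C).1 hz')
    have hxO : x ∈ O C := by
      simp only [O, mem_filter, mem_univ, true_and]
      exact ⟨1, one_smul _ _, one_smul _ _⟩
    have := invariant_outside G hsm h2' (by omega) hcard hRM hMR hMMt hK hO hdis hxO hx'
    simpa [O] using this
  · intro C D D' hD hD'
    exact invariant_blocks G hsm h2' (by omega) hRM hMR hRJ
      (S := fun E F => ∃ g : G, g • C = E ∧ g • D = F)
      (fun g E F => ⟨fun ⟨f, hf, hf'⟩ => ⟨g⁻¹ * f, by rw [mul_smul, hf, inv_smul_smul],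
        by rw [mul_smul, hf', inv_smul_smul]⟩,
        fun ⟨f, hf, hf'⟩ => ⟨g * f, by rw [mul_smul, hf], by rw [mul_smul, hf']⟩⟩)
      (Ne.symm hD) (Ne.symm hD') ⟨1, one_smul _ _, one_smul _ _⟩
  · intro C
    induction C using QuotientGroup.induction_on with
    | H c =>
      refine ⟨c * (h₀ : G) * c⁻¹, fun e => hh₀ (Subtype.ext ?_), fun x hx => ?_⟩
      · exact conj_eq_one_iff.1 e
      · rw [mul_smul, mul_smul, ← Subgroup.smul_def, hh₀fix _ ((hblk c x).1 hx), smul_inv_smul]

end Build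

end CfsgLib.ItoDesign
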