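import Cfsg.Agent.Lib.Perm.ItoDesign.Axial

/-!
# Every elation has a centre
-/

set_option autoImplicit false
set_option linter.unusedSectionVars false

namespace CfsgLib.ItoDesign

open MulAction Finset

variable {G Ω X : Type*} [Group G] [MulAction G Ω] [MulAction G X] [Fintype Ω] [Fintype X]
  [DecidableEq Ω] [DecidableEq X] [FaithfulSMul G Ω] [Finite G]

namespace Dsgn

variable {D : Dsgn G Ω X} {B : X} {h : G}

/-- The number of fixed blocks through a point. -/
def phi (D : Dsgn G Ω X) (h : G) (x : Ω) : ℕ :=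
  (univ.filter fun C => x ∈ D.blk C ∧ h • C = C).card

theorem phi_eq_lam (hh : h ∈ D.El B) (h1 : h ≠ 1) {x : Ω} (hx : x ∉ D.blk B) :
    D.phi h x = D.lam := by
  have hy := D.el_moves hh h1 hx
  rw [phi, filter_fixed_eq (D.el_ax hh) hy, D.card_pair _ _ hy.symm]

theorem sum_phi (hh : h ∈ D.El B) (h1 : h ≠ 1) (E : X) :
    ∑ x ∈ D.blk E, D.phi h x + (if h • E = E then D.lam else 0) =
      D.lam * D.k + (if h • E = E then D.k else 0) := by
  have hsum : ∑ x ∈ D.blk E, D.phi h x =
      ∑ C ∈ univ.filter (fun C : X => h • C = C), (D.blk E ∩ D.blk C).card := by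
    simp only [phi, Finset.card_filter]
    rw [Finset.sum_comm, Finset.sum_filter]
    refine Finset.sum_congr rfl fun C _ => ?_
    by_cases hC : h • C = C
    · rw [if_pos hC, ← Finset.filter_mem_eq_inter, Finset.card_filter]
      simp [hC]
    · simp [hC]
  have hk := D.card_fixed_blocks hh h1
  by_cases hE : h • E = E
  · have hmem : E ∈ univ.filter fun C : X => h • C = C := mem_filter.2 ⟨mem_univ E, hE⟩
    rw [hsum, if_pos hE, if_pos hE, ← Finset.add_sum_erase _ _ hmem,
      Finset.inter_self, D.card_blk,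
      Finset.sum_congr rfl (g := fun _ => D.lam)
        (fun C hC => D.card_inter E C (Finset.ne_of_mem_erase hC).symm),
      Finset.sum_const, smul_eq_mul, Finset.card_erase_of_mem hmem, hk]
    have : (D.k - 1) * D.lam + D.lam = D.lam * D.k := by
      rw [← Nat.succ_mul, Nat.succ_eq_add_one, Nat.sub_add_cancel (by have := D.two_le; omega),
        mul_comm]
    omega
  · rw [hsum, if_neg hE, if_neg hE, add_zero, add_zero,
      Finset.sum_congr rfl (g := fun _ => D.lam) (fun C hC => D.card_inter E C fun e => hE (by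
        rw [e]; exact (mem_filter.1 hC).2)),
      Finset.sum_const, smul_eq_mul, hk, mul_comm]

theorem sum_phi_base (hh : h ∈ D.El B) (h1 : h ≠ 1) {E : X} (hE : E ≠ B) :
    ∑ x ∈ D.blk E ∩ D.blk B, D.phi h x + (if h • E = E then D.lam else 0) =
      D.lam * D.lam + (if h • E = E then D.k else 0) := by
  have h0 := sum_phi hh h1 E
  rw [← Finset.sum_inter_add_sum_sdiff (D.blk E) (D.blk B),
    Finset.sum_congr rfl (g := fun _ => D.lam) (s₁ := D.blk E \ D.blk B)
      (fun x hx => phi_eq_lam hh h1 (mem_sdiff.1 hx).2),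
    Finset.sum_const, smul_eq_mul, Finset.card_sdiff, D.card_blk, Finset.inter_comm (D.blk B),
    D.card_inter E B hE] at h0
  have : (D.k - D.lam) * D.lam + D.lam * D.lam = D.lam * D.k := by
    rw [← Nat.add_mul, Nat.sub_add_cancel D.lam_lt.le, mul_comm]
  omega

theorem fixed_iff_of_inter_eq (hh : h ∈ D.El B) (h1 : h ≠ 1) {E E' : X} (hE : E ≠ B) (hE' : E' ≠ B)
    (he : D.blk E ∩ D.blk B = D.blk E' ∩ D.blk B) : h • E = E ↔ h • E' = E' := by
  have a := sum_phi_base hh h1 hE
  have b := sum_phi_base hh h1 hE'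
  rw [he] at a
  have := D.lam_lt
  constructor <;> intro hf <;> by_contra hn
  · rw [if_pos hf, if_pos hf] at a
    rw [if_neg hn, if_neg hn] at b
    omega
  · rw [if_neg hn, if_neg hn] at a
    rw [if_pos hf, if_pos hf] at b
    omega

theorem exists_el_moving (B C : X) (hCB : C ≠ B) : ∃ x ∈ D.El C, x • B ≠ B := by
  by_contra hall
  push Not at hall
  obtain ⟨x, hx, hx1⟩ := (Subgroup.bot_or_exists_ne_one (D.El C)).resolve_left (D.el_ne_bot C)
  refine hx1 (D.eq_one_of_fix_blocks fun E => ?_)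
  by_cases hE : E = C
  · exact hE ▸ D.el_smul_self hx
  obtain ⟨g, hgC, hgB⟩ := D.trans_blk_stab C B E (Ne.symm hCB) hE
  have hm : g⁻¹ * x * g ∈ D.El C := by
    have := D.conj_mem_el (g := g⁻¹) hx
    rwa [inv_inv, inv_smul_eq_iff.2 hgC.symm] at this
  have := hall _ hm
  rw [mul_smul, mul_smul, hgB, inv_smul_eq_iff, hgB] at this
  exact this

theorem phi_of_moved (hh : h ∈ D.El B) (h1 : h ≠ 1) {C : X} (hfC : h • C = C) (hCB : C ≠ B) {z : Ω}
    (hzC : z ∉ D.blk C) : D.phi h z = D.lam := by
  set Φ := univ.filter fun C : X => h • C = C with hΦ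
  have hk : Φ.card = D.k := D.card_fixed_blocks hh h1
  obtain ⟨x, hx, hxB⟩ := exists_el_moving (D := D) B C hCB
  have hhx : h * x * h⁻¹ ∈ D.El C := by
    have := D.conj_mem_el (g := h) hx
    rwa [hfC] at this
  set i := h * x * h⁻¹ * x⁻¹ with hi
  have hiC : i ∈ D.El C := mul_mem hhx (inv_mem hx)
  have hi1 : i ≠ 1 := by
    intro e
    have hc : h * x = x * h := mul_inv_eq_iff_eq_mul.1 (mul_inv_eq_one.1 e)
    refine hxB (D.smul_eq_self_of_mapsTo fun p hp => ?_)
    rw [← D.el_fixed_iff hh h1, ← mul_smul, hc, mul_smul, D.el_fix hh hp]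
  have key : ∀ E : X, h • E = E → i • E = E := by
    intro E hE
    set E' := x⁻¹ • E with hE'
    have hE'f : h • E' = E' := by
      by_contra hmv
      have hsame : D.blk E' ∩ D.blk C = D.blk E ∩ D.blk C := by
        ext p
        simp only [Finset.mem_inter]
        refine and_congr_left fun hp => ?_
        rw [hE', D.mem_blk_smul_iff, inv_inv, D.el_fix hx hp]
      have hEC' : E' ≠ C := fun e => hmv (by rw [e]; exact hfC)
      have hEC : E ≠ C := by
        intro e
        refine hEC' ?_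
        rw [hE', e, inv_smul_eq_iff]
        exact (D.el_smul_self hx).symm
      have hsub : D.blk E' ∩ D.blk C ⊆ D.blk E' ∩ D.blk (h • E') := by
        intro p hp
        refine Finset.mem_inter.2 ⟨(Finset.mem_inter.1 hp).1, ?_⟩
        rw [hsame, Finset.mem_inter] at hp
        rw [D.mem_blk_smul_iff]
        have hpE : h⁻¹ • p ∈ D.blk E := by rw [← D.mem_blk_smul_iff, hE]; exact hp.1
        have hpC : h⁻¹ • p ∈ D.blk C := by rw [← D.mem_blk_smul_iff, hfC]; exact hp.2
        have := (Finset.ext_iff.1 hsame (h⁻¹ • p)).2 (Finset.mem_inter.2 ⟨hpE, hpC⟩)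
        exact (Finset.mem_inter.1 this).1
      rw [inter_moved (D.el_ax hh) hmv] at hsub
      have e1 : D.blk E' ∩ D.blk C = D.blk E' ∩ D.blk B :=
        Finset.eq_of_subset_of_card_le hsub (by
          rw [D.card_inter _ _ hEC', D.card_inter _ _ fun e => hmv (by rw [e]; exact D.el_smul_self hh)])
      have e2 : D.blk E' ∩ D.blk B = D.blk C ∩ D.blk B := by
        refine Finset.eq_of_subset_of_card_le (fun p hp => Finset.mem_inter.2 ⟨?_, ?_⟩) (le_of_eq ?_)
        · rw [← e1] at hp; exact (Finset.mem_inter.1 hp).2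
        · exact (Finset.mem_inter.1 hp).2
        · rw [D.card_inter _ _ hCB, D.card_inter _ _ fun e => hmv (by rw [e]; exact D.el_smul_self hh)]
      exact hmv ((fixed_iff_of_inter_eq hh h1 (fun e => hmv (by rw [e]; exact D.el_smul_self hh))
        hCB e2).2 hfC)
    calc i • E = h • x • h⁻¹ • E' := by rw [hi, mul_smul, mul_smul, mul_smul, hE']
      _ = E := by
        have e : h⁻¹ • E' = E' := by rw [inv_smul_eq_iff, hE'f]
        rw [e, hE', smul_inv_smul, hE]
  have hΦi : Φ = univ.filter fun E : X => i • E = E :=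
    Finset.eq_of_subset_of_card_le (fun E hE => mem_filter.2 ⟨mem_univ _, key E (mem_filter.1 hE).2⟩)
      (by rw [hk, D.card_fixed_blocks hiC hi1])
  rw [← phi_eq_lam hiC hi1 hzC, phi, phi]
  congr 1
  refine Finset.filter_congr fun E _ => and_congr_right fun _ => ?_
  have := Finset.ext_iff.1 hΦi E
  simpa [hΦ] using this

theorem exists_centre (hh : h ∈ D.El B) (h1 : h ≠ 1) :
    ∃ z ∈ D.blk B, ∀ C, h • C = C ↔ z ∈ D.blk C := by
  set Φ := univ.filter fun C : X => h • C = C with hΦ
  have hk : Φ.card = D.k := D.card_fixed_blocks hh h1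
  obtain ⟨z, hzB, hz⟩ : ∃ z ∈ D.blk B, D.phi h z ≠ D.lam := by
    by_contra hall
    push Not at hall
    have := sum_phi hh h1 B
    rw [if_pos (D.el_smul_self hh), if_pos (D.el_smul_self hh),
      Finset.sum_congr rfl hall, Finset.sum_const, D.card_blk, smul_eq_mul, mul_comm D.k] at this
    have := D.lam_lt
    omega
  refine ⟨z, hzB, fun E => ?_⟩
  have hzall : ∀ E : X, h • E = E → z ∈ D.blk E := by
    intro E hE
    by_cases hEB : E = B
    · exact hEB ▸ hzB
    by_contra hzE
    exact hz (phi_of_moved hh h1 hE hEB hzE)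
  have hsub : Φ ⊆ univ.filter fun E => z ∈ D.blk E := fun E hE =>
    mem_filter.2 ⟨mem_univ _, hzall E (mem_filter.1 hE).2⟩
  have := Finset.ext_iff.1 (Finset.eq_of_subset_of_card_le hsub (by rw [hk, D.card_star])) E
  simpa [hΦ] using this

end Dsgn

end CfsgLib.ItoDesign
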