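import Mathlib.Algebra.Field.Shrink
import Mathlib.Algebra.Ring.Shrink
import Mathlib.LinearAlgebra.Dimension.Finrank
import Mathlib.LinearAlgebra.FiniteDimensional.Basic
import Mathlib.RingTheory.LittleWedderburn
import Mathlib.GroupTheory.Index
import Mathlib.Algebra.Module.Basic
import Mathlib.FieldTheory.Finiteness

/-!
# Geometric spreads of finite abelian groups

A partition of a finite abelian group into subgroups of one order, in which the sum of any two
components is a union of components and is never the whole group, is the partition of a vector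
space into its one-dimensional subspaces.
-/

set_option autoImplicit false
set_option linter.unusedSectionVars false

namespace CfsgLib.ItoDesign.Spread

variable {V : Type*} [AddCommGroup V] [Finite V] {ι : Type*}

/-- The hypotheses on a geometric spread. -/
structure IsGeom (P : ι → AddSubgroup V) (q : ℕ) : Prop where
  two_le : 2 ≤ q
  card : ∀ i, Nat.card (P i) = q
  cover : ∀ v : V, ∃ i, v ∈ P i
  disj : ∀ i j v, v ∈ P i → v ∈ P j → i ≠ j → v = 0
  plane : ∀ i j l v, i ≠ j → v ≠ 0 → v ∈ P l → v ∈ P i ⊔ P j → P l ≤ P i ⊔ P j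
  indep : ∀ i j, ∃ l, ¬ P l ≤ P i ⊔ P j

variable {P : ι → AddSubgroup V} {q : ℕ} (hP : IsGeom P q)

open scoped Classical in
/-- The component of an element, trivial for the zero element. -/
noncomputable def comp (v : V) : AddSubgroup V :=
  if v = 0 then ⊥ else P (hP.cover v).choose

include hP

theorem comp_zero : comp hP (0 : V) = ⊥ := if_pos rfl

theorem comp_eq {v : V} (hv : v ≠ 0) {i : ι} (hi : v ∈ P i) : comp hP v = P i := by
  rw [comp, if_neg hv]
  by_contra hne
  exact hv (hP.disj _ _ v (hP.cover v).choose_spec hi fun e => hne (by rw [e]))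

theorem mem_comp_self (v : V) : v ∈ comp hP v := by
  by_cases hv : v = 0
  · rw [hv]; exact zero_mem _
  · obtain ⟨i, hi⟩ := hP.cover v
    rwa [comp_eq hP hv hi]

theorem card_comp {v : V} (hv : v ≠ 0) : Nat.card (comp hP v) = q := by
  obtain ⟨i, hi⟩ := hP.cover v
  rw [comp_eq hP hv hi]; exact hP.card i

theorem comp_eq_of_mem {v w : V} (hw : w ≠ 0) (h : w ∈ comp hP v) : comp hP w = comp hP v := by
  have hv : v ≠ 0 := fun e => hw (by rw [e, comp_zero, AddSubgroup.mem_bot] at h; exact h)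
  obtain ⟨i, hi⟩ := hP.cover v
  rw [comp_eq hP hv hi] at h ⊢
  exact comp_eq hP hw h

theorem eq_zero_of_mem {v w a : V} (hvw : w ∉ comp hP v) (ha : a ∈ comp hP v) (ha' : a ∈ comp hP w) :
    a = 0 := by
  by_contra h
  refine hvw ?_
  rw [← comp_eq_of_mem hP h ha, comp_eq_of_mem hP h ha']
  exact mem_comp_self hP w

theorem not_mem_comm {v w : V} (hv : v ≠ 0) (h : w ∉ comp hP v) : v ∉ comp hP w := fun e => by
  refine h ?_
  rw [comp_eq_of_mem hP hv e]
  exact mem_comp_self hP w

theorem comp_le_sup {v w a : V} (hv : v ≠ 0) (hw : w ∉ comp hP v) (ha : a ∈ comp hP v ⊔ comp hP w) :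
    comp hP a ≤ comp hP v ⊔ comp hP w := by
  by_cases ha0 : a = 0
  · rw [ha0, comp_zero]; exact bot_le
  have hw0 : w ≠ 0 := fun e => hw (e ▸ zero_mem _)
  obtain ⟨i, hi⟩ := hP.cover v
  obtain ⟨j, hj⟩ := hP.cover w
  obtain ⟨l, hl⟩ := hP.cover a
  rw [comp_eq hP hv hi, comp_eq hP hw0 hj] at ha ⊢
  rw [comp_eq hP ha0 hl]
  refine hP.plane i j l a (fun e => hw ?_) ha0 hl ha
  rw [comp_eq hP hv hi, e]; exact hj

theorem card_sup {v w : V} (hv : v ≠ 0) (hw : w ∉ comp hP v) :
    Nat.card (comp hP v ⊔ comp hP w : AddSubgroup V) = q * q := by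
  have hw0 : w ≠ 0 := fun e => hw (e ▸ zero_mem _)
  let f : comp hP v × comp hP w → (comp hP v ⊔ comp hP w : AddSubgroup V) := fun p =>
    ⟨(p.1 : V) + p.2, AddSubgroup.add_mem_sup p.1.2 p.2.2⟩
  have hf : Function.Bijective f := by
    refine ⟨fun a b e => ?_, fun ⟨c, hc⟩ => ?_⟩
    · have e' : (a.1 : V) + a.2 = b.1 + b.2 := congrArg Subtype.val e
      have h0 : (a.1 : V) - b.1 = 0 := by
        refine eq_zero_of_mem hP hw (sub_mem a.1.2 b.1.2) ?_
        have : (a.1 : V) - b.1 = b.2 - a.2 := by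
          rw [sub_eq_sub_iff_add_eq_add, e', add_comm]
        rw [this]; exact sub_mem b.2.2 a.2.2
      rw [sub_eq_zero] at h0
      refine Prod.ext (Subtype.ext h0) (Subtype.ext ?_)
      rwa [h0, add_right_inj] at e'
    · obtain ⟨a, ha, b, hb, rfl⟩ := AddSubgroup.mem_sup.1 hc
      exact ⟨(⟨a, ha⟩, ⟨b, hb⟩), rfl⟩
  rw [← Nat.card_congr (Equiv.ofBijective f hf), Nat.card_prod, card_comp hP hv, card_comp hP hw0]

/-- Two components in a plane span it. -/
theorem sup_eq {v w a b : V} (hv : v ≠ 0) (hw : w ∉ comp hP v) (ha : a ≠ 0) (hb : b ∉ comp hP a)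
    (h1 : a ∈ comp hP v ⊔ comp hP w) (h2 : b ∈ comp hP v ⊔ comp hP w) :
    comp hP a ⊔ comp hP b = comp hP v ⊔ comp hP w :=
  AddSubgroup.eq_of_le_of_card_ge (sup_le (comp_le_sup hP hv hw h1) (comp_le_sup hP hv hw h2))
    (by rw [card_sup hP hv hw, card_sup hP ha hb])

/-- Three elements in independent components. -/
structure Indep (x v w : V) : Prop where
  ne : x ≠ 0
  hv : v ∉ comp hP x
  hw : w ∉ comp hP x ⊔ comp hP v

theorem Indep.swap₂₃ {x v w : V} (h : Indep hP x v w) : Indep hP x w v := by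
  have hwx : w ∉ comp hP x := fun e => h.hw (AddSubgroup.mem_sup_left e)
  refine ⟨h.ne, hwx, fun e => h.hw ?_⟩
  rw [sup_eq hP h.ne hwx h.ne h.hv (AddSubgroup.mem_sup_left (mem_comp_self hP x)) e]
  exact AddSubgroup.mem_sup_right (mem_comp_self hP w)

theorem Indep.swap₁₂ {x v w : V} (h : Indep hP x v w) : Indep hP v x w :=
  ⟨fun e => h.hv (e ▸ zero_mem _), not_mem_comm hP h.ne h.hv, by rw [sup_comm]; exact h.hw⟩

/-- The image of a vector under the homothety with given value at a base vector. -/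
def IsD (x x' v a : V) : Prop := a ∈ comp hP v ∧ x' - a ∈ comp hP (x - v)

theorem sub_facts {x v : V} (hx : x ≠ 0) (hv : v ∉ comp hP x) :
    x - v ≠ 0 ∧ x - v ∉ comp hP v := by
  refine ⟨fun e => hv ?_, fun e => not_mem_comm hP hx hv ?_⟩
  · rw [← sub_eq_zero.1 e]; exact mem_comp_self hP x
  · have := add_mem e (mem_comp_self hP v)
    rwa [sub_add_cancel] at this

theorem existsUnique_isD {x x' v : V} (hx : x ≠ 0) (hx' : x' ∈ comp hP x) (hv : v ∉ comp hP x) :
    ∃! a, IsD hP x x' v a := by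
  obtain ⟨hd, hdv⟩ := sub_facts hP hx hv
  have hv0 : v ≠ 0 := fun e => hv (e ▸ zero_mem _)
  have hx1 : x ∈ comp hP v ⊔ comp hP (x - v) := by
    have := AddSubgroup.add_mem_sup (mem_comp_self hP v) (mem_comp_self hP (x - v))
    rwa [add_sub_cancel] at this
  obtain ⟨a, ha, b, hb, e⟩ := AddSubgroup.mem_sup.1 (comp_le_sup hP hv0 hdv hx1 hx')
  refine ⟨a, ⟨ha, by rwa [← e, add_sub_cancel_left]⟩, fun c hc => ?_⟩
  have h1 : c - a ∈ comp hP (x - v) := by
    have := sub_mem hb hc.2
    rwa [← e, show b - (a + b - c) = c - a by abel] at this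
  exact sub_eq_zero.1 (eq_zero_of_mem hP hdv (sub_mem hc.1 ha) h1)

theorem isD_sub {x x' v w a b : V} (h : Indep hP x v w) (ha : IsD hP x x' v a)
    (hb : IsD hP x x' w b) : a - b ∈ comp hP (v - w) := by
  have hv0 : v ≠ 0 := fun e => h.hv (e ▸ zero_mem _)
  have hwx : w ∉ comp hP x := fun e => h.hw (AddSubgroup.mem_sup_left e)
  have hwv : w ∉ comp hP v := fun e => h.hw (AddSubgroup.mem_sup_right e)
  have hxnot : x ∉ comp hP v ⊔ comp hP w := h.swap₁₂.swap₂₃.hw
  obtain ⟨hd1, hd1v⟩ := sub_facts hP h.ne h.hv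
  obtain ⟨hd2, hd2w⟩ := sub_facts hP h.ne hwx
  have hne : x - w ∉ comp hP (x - v) := by
    intro e
    have hm : v - w ∈ comp hP (x - v) := by
      have := sub_mem e (mem_comp_self hP (x - v))
      rwa [sub_sub_sub_cancel_left] at this
    by_cases hvw : v - w = 0
    · exact hwv (sub_eq_zero.1 hvw ▸ mem_comp_self hP v)
    · refine hxnot ?_
      have h1 : comp hP (v - w) ≤ comp hP v ⊔ comp hP w := comp_le_sup hP hv0 hwv
        (sub_mem (AddSubgroup.mem_sup_left (mem_comp_self hP v))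
          (AddSubgroup.mem_sup_right (mem_comp_self hP w)))
      rw [comp_eq_of_mem hP hvw hm] at h1
      have := add_mem (h1 (mem_comp_self hP (x - v))) (AddSubgroup.mem_sup_left (mem_comp_self hP v))
      rwa [sub_add_cancel] at this
  by_contra hc
  have hvw0 : v - w ≠ 0 := fun e => hwv (sub_eq_zero.1 e ▸ mem_comp_self hP v)
  have p1 : comp hP (v - w) ⊔ comp hP (a - b) = comp hP v ⊔ comp hP w :=
    sup_eq hP hv0 hwv hvw0 hc
      (sub_mem (AddSubgroup.mem_sup_left (mem_comp_self hP v))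
        (AddSubgroup.mem_sup_right (mem_comp_self hP w)))
      (sub_mem (AddSubgroup.mem_sup_left ha.1) (AddSubgroup.mem_sup_right hb.1))
  have p2 : comp hP (v - w) ⊔ comp hP (a - b) = comp hP (x - v) ⊔ comp hP (x - w) :=
    sup_eq hP hd1 hne hvw0 hc
      (by
        have := sub_mem (AddSubgroup.mem_sup_right (S := comp hP (x - v)) (mem_comp_self hP (x - w)))
          (AddSubgroup.mem_sup_left (T := comp hP (x - w)) (mem_comp_self hP (x - v)))
        rwa [sub_sub_sub_cancel_left] at this)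
      (by
        have := sub_mem (AddSubgroup.mem_sup_right (S := comp hP (x - v)) hb.2)
          (AddSubgroup.mem_sup_left (T := comp hP (x - w)) ha.2)
        rwa [sub_sub_sub_cancel_left] at this)
  refine hxnot ?_
  have h2 : x - v ∈ comp hP v ⊔ comp hP w := by
    rw [← p1, p2]; exact AddSubgroup.mem_sup_left (mem_comp_self hP (x - v))
  have := add_mem h2 (AddSubgroup.mem_sup_left (mem_comp_self hP v))
  rwa [sub_add_cancel] at this

theorem isD_base_change {x x' v w a b : V} (h : Indep hP x v w) (ha : IsD hP x x' v a)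
    (hb : IsD hP x x' w b) : IsD hP v a w b :=
  ⟨hb.1, isD_sub hP h ha hb⟩

theorem exists_outside (x v : V) : ∃ u, u ∉ comp hP x ⊔ comp hP v := by
  obtain ⟨i, hi⟩ := hP.cover x
  obtain ⟨j, hj⟩ := hP.cover v
  obtain ⟨l, hl⟩ := hP.indep i j
  obtain ⟨u, hu, hu'⟩ := SetLike.not_le_iff_exists.1 hl
  refine ⟨u, fun e => hu' ?_⟩
  have hle : ∀ (y : V) (i : ι), y ∈ P i → comp hP y ≤ P i := fun y i hi => by
    by_cases hy : y = 0
    · rw [hy, comp_zero]; exact bot_le
    · rw [comp_eq hP hy hi]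
  exact sup_le_sup (hle x i hi) (hle v j hj) e

open scoped Classical in
/-- The homothety sending `x` to `x'`. -/
theorem exists_homothety {x x' : V} (hx : x ≠ 0) (hx' : x' ∈ comp hP x) :
    ∃ φ : V →+ V, (∀ v, φ v ∈ comp hP v) ∧ φ x = x' := by
  obtain ⟨v₀, hv₀⟩ := exists_outside hP x x
  replace hv₀ : v₀ ∉ comp hP x := fun e => hv₀ (AddSubgroup.mem_sup_left e)
  choose D hD hDu using fun (y : {p : V × V × V // p.1 ≠ 0 ∧ p.2.1 ∈ comp hP p.1 ∧ p.2.2 ∉ comp hP p.1}) =>
    existsUnique_isD hP y.2.1 y.2.2.1 y.2.2.2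
  let d : V → V → V → V := fun y y' v =>
    if h : y ≠ 0 ∧ y' ∈ comp hP y ∧ v ∉ comp hP y then D ⟨(y, y', v), h⟩ else 0
  have d_spec : ∀ {y y' v}, y ≠ 0 → y' ∈ comp hP y → v ∉ comp hP y → IsD hP y y' v (d y y' v) := by
    intro y y' v h1 h2 h3
    have hh : y ≠ 0 ∧ y' ∈ comp hP y ∧ v ∉ comp hP y := ⟨h1, h2, h3⟩
    simp only [d]
    rw [dif_pos hh]
    exact hD ⟨(y, y', v), h1, h2, h3⟩
  have d_eq : ∀ {y y' v a}, y ≠ 0 → y' ∈ comp hP y → v ∉ comp hP y → IsD hP y y' v a →
      a = d y y' v := fun h1 h2 h3 ha =>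
    (existsUnique_isD hP h1 h2 h3).unique ha (d_spec h1 h2 h3)
  let a₀ := d x x' v₀
  let φ : V → V := fun w => if w = 0 then 0 else if w ∈ comp hP x then d v₀ a₀ w else d x x' w
  have φ_out : ∀ {w}, w ∉ comp hP x → φ w = d x x' w := fun {w} hw => by
    have : w ≠ 0 := fun e => hw (e ▸ zero_mem _)
    simp only [φ, if_neg this, if_neg hw]
  have spec_out : ∀ {w}, w ∉ comp hP x → IsD hP x x' w (φ w) := fun {w} hw => by
    rw [φ_out hw]; exact d_spec hx hx' hw
  have φ_zero : φ 0 = 0 := if_pos rfl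
  have hv₀0 : v₀ ≠ 0 := fun e => hv₀ (e ▸ zero_mem _)
  have not_in : ∀ {u w}, u ∉ comp hP x → w ∈ comp hP x → w ≠ 0 → w ∉ comp hP u := fun {u w} hu hw hw0 e => by
    refine hu ?_
    rw [← comp_eq_of_mem hP hw0 hw, comp_eq_of_mem hP hw0 e]
    exact mem_comp_self hP u
  have spec_v₀ : ∀ {w}, w ∈ comp hP x → w ≠ 0 → IsD hP v₀ a₀ w (φ w) := fun {w} hw hw0 => by
    simp only [φ, if_neg hw0, if_pos hw]
    exact d_spec hv₀0 (d_spec hx hx' hv₀).1 (not_in hv₀ hw hw0)
  have step : ∀ {u t w}, Indep hP x u t → w ∈ comp hP x → w ≠ 0 → IsD hP u (φ u) w (φ w) →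
      IsD hP t (φ t) w (φ w) := fun {u t w} h hw hw0 hs => by
    have hu := h.hv
    have ht : t ∉ comp hP x := fun e => h.hw (AddSubgroup.mem_sup_left e)
    have h1 : IsD hP u (φ u) t (φ t) := isD_base_change hP h (spec_out hu) (spec_out ht)
    refine isD_base_change hP ?_ h1 hs
    refine ⟨fun e => hu (e ▸ zero_mem _), fun e => h.hw (AddSubgroup.mem_sup_right e), fun e => ?_⟩
    refine h.swap₁₂.swap₂₃.hw ?_
    have := comp_le_sup hP (fun e : u = 0 => hu (e ▸ zero_mem _)) (fun e => h.hw (AddSubgroup.mem_sup_right e)) e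
    rw [comp_eq_of_mem hP hw0 hw] at this
    exact this (mem_comp_self hP x)
  have spec_in : ∀ {u w}, u ∉ comp hP x → w ∈ comp hP x → w ≠ 0 → IsD hP u (φ u) w (φ w) := by
    intro u w hu hw hw0
    have h0 : IsD hP v₀ (φ v₀) w (φ w) := by
      rw [φ_out hv₀]; exact spec_v₀ hw hw0
    by_cases h : u ∈ comp hP x ⊔ comp hP v₀
    · obtain ⟨t, ht⟩ := exists_outside hP x v₀
      refine step ?_ hw hw0 (step ⟨hx, hv₀, ht⟩ hw hw0 h0)
      refine ⟨hx, fun e => ht (AddSubgroup.mem_sup_left e), fun e => ht ?_⟩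
      rw [← sup_eq hP hx hv₀ hx hu (AddSubgroup.mem_sup_left (mem_comp_self hP x)) h]
      have h' : Indep hP x t u → t ∉ comp hP x ⊔ comp hP u := fun k => k.swap₂₃.hw
      by_contra htu
      exact (Indep.swap₂₃ hP ⟨hx, hu, htu⟩).hw e
    · exact step ⟨hx, hv₀, h⟩ hw hw0 h0
  have R : ∀ {v w}, v ≠ 0 → w ∉ comp hP v → φ v - φ w ∈ comp hP (v - w) := by
    intro v w hv0 hwv
    have hw0 : w ≠ 0 := fun e => hwv (e ▸ zero_mem _)
    by_cases hv : v ∈ comp hP x
    · have hw : w ∉ comp hP x := fun e => hwv (by rw [comp_eq_of_mem hP hv0 hv]; exact e)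
      have := neg_mem (spec_in hw hv hv0).2
      rw [neg_sub] at this
      have h2 : comp hP (v - w) = comp hP (w - v) := by
        refine comp_eq_of_mem hP (sub_ne_zero.2 fun e => hwv (e ▸ mem_comp_self hP v)) ?_
        have h3 := neg_mem (mem_comp_self hP (w - v))
        rwa [neg_sub] at h3
      rw [h2]; exact this
    by_cases hw : w ∈ comp hP x
    · exact (spec_in hv hw hw0).2
    by_cases h : w ∈ comp hP x ⊔ comp hP v
    · obtain ⟨u, hu⟩ := exists_outside hP x v
      have i1 : Indep hP x v u := ⟨hx, hv, hu⟩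
      have e1 := sup_eq hP hx hv hx hw (AddSubgroup.mem_sup_left (mem_comp_self hP x)) h
      have i2 : Indep hP x w u := ⟨hx, hw, e1.symm ▸ hu⟩
      have hu0 : u ∉ comp hP x := fun e => hu (AddSubgroup.mem_sup_left e)
      have e2 := sup_eq hP hx hv hv0 hwv (AddSubgroup.mem_sup_right (mem_comp_self hP v)) h
      have i3 : Indep hP v w u := ⟨hv0, hwv, e2.symm ▸ hu⟩
      exact isD_sub hP i3.swap₂₃.swap₁₂
        (isD_base_change hP i1.swap₂₃ (spec_out hu0) (spec_out hv))
        (isD_base_change hP i2.swap₂₃ (spec_out hu0) (spec_out hw))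
    · exact isD_sub hP ⟨hx, hv, h⟩ (spec_out hv) (spec_out hw)
  have φ_mem : ∀ v, φ v ∈ comp hP v := by
    intro v
    by_cases hv0 : v = 0
    · rw [hv0, φ_zero]; exact zero_mem _
    by_cases hv : v ∈ comp hP x
    · exact (spec_v₀ hv hv0).1
    · exact (spec_out hv).1
  have add_indep : ∀ {v w}, v ≠ 0 → w ∉ comp hP v → φ (v + w) = φ v + φ w := by
    intro v w hv0 hwv
    have hw0 : w ≠ 0 := fun e => hwv (e ▸ zero_mem _)
    have h1 : v + w ∉ comp hP v := fun e => hwv (by simpa using sub_mem e (mem_comp_self hP v))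
    have h2 : v + w ∉ comp hP w := fun e => not_mem_comm hP hv0 hwv (by
      simpa using sub_mem e (mem_comp_self hP w))
    have a1 := R hv0 h1
    have a2 := R hw0 h2
    rw [show v - (v + w) = -w by abel, comp_eq_of_mem hP (neg_ne_zero.2 hw0)
      (neg_mem (mem_comp_self hP w))] at a1
    rw [show w - (v + w) = -v by abel, comp_eq_of_mem hP (neg_ne_zero.2 hv0)
      (neg_mem (mem_comp_self hP v))] at a2
    have b1 : φ (v + w) - φ v - φ w ∈ comp hP w := by
      have := sub_mem (neg_mem a1) (φ_mem w)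
      rwa [neg_sub] at this
    have b2 : φ (v + w) - φ v - φ w ∈ comp hP v := by
      have := sub_mem (neg_mem a2) (φ_mem v)
      rwa [neg_sub, sub_right_comm] at this
    have := eq_zero_of_mem hP hwv b2 b1
    rwa [sub_sub, sub_eq_zero] at this
  have hadd : ∀ v w, φ (v + w) = φ v + φ w := by
    intro v w
    by_cases hv0 : v = 0
    · rw [hv0, φ_zero, zero_add, zero_add]
    by_cases hwv : w ∉ comp hP v
    · exact add_indep hv0 hwv
    push Not at hwv
    by_cases hw0 : w = 0
    · rw [hw0, φ_zero, add_zero, add_zero]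
    obtain ⟨u, hu⟩ := exists_outside hP v v
    replace hu : u ∉ comp hP v := fun e => hu (AddSubgroup.mem_sup_left e)
    have e1 : φ (v + w + u) = φ (v + w) + φ u := by
      by_cases h0 : v + w = 0
      · rw [h0, φ_zero, zero_add, zero_add]
      · exact add_indep h0 (by rw [comp_eq_of_mem hP h0 (add_mem (mem_comp_self hP v) hwv)]; exact hu)
    have e2 : φ (v + (w + u)) = φ v + φ (w + u) :=
      add_indep hv0 fun e => hu (by simpa using sub_mem e hwv)
    have e3 : φ (w + u) = φ w + φ u :=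
      add_indep hw0 (by rw [comp_eq_of_mem hP hw0 hwv]; exact hu)
    rw [← add_assoc, e1, e3, ← add_assoc] at e2
    exact add_right_cancel e2
  refine ⟨AddMonoidHom.mk' φ hadd, φ_mem, ?_⟩
  show φ x = x'
  have h := spec_in hv₀ (mem_comp_self hP x) hx
  refine (existsUnique_isD hP hv₀0 (φ_mem v₀) (not_mem_comm hP hx hv₀)).unique h ⟨hx', ?_⟩
  have h2 := neg_mem (spec_out hv₀).2
  rw [neg_sub] at h2
  have h3 : comp hP (v₀ - x) = comp hP (x - v₀) := by
    refine comp_eq_of_mem hP (sub_ne_zero.2 fun e => hv₀ (e ▸ mem_comp_self hP x)) ?_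
    have h4 := neg_mem (mem_comp_self hP (x - v₀))
    rwa [neg_sub] at h4
  rw [h3]; exact h2

/-- The endomorphisms fixing every component. -/
def kernelRing : Subring (AddMonoid.End V) where
  carrier := {φ | ∀ v, φ v ∈ comp hP v}
  one_mem' v := mem_comp_self hP v
  zero_mem' v := zero_mem _
  add_mem' hf hg v := add_mem (hf v) (hg v)
  neg_mem' hf v := neg_mem (hf v)
  mul_mem' := by
    intro f g hf hg v
    show f (g v) ∈ comp hP v
    by_cases h : g v = 0
    · rw [h, map_zero]; exact zero_mem _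
    · rw [← comp_eq_of_mem hP h (hg v)]; exact hf _

theorem eq_zero_of_apply {φ : AddMonoid.End V} (hφ : φ ∈ kernelRing hP) {x : V} (hx : x ≠ 0)
    (h0 : φ x = 0) : φ = 0 := by
  have out : ∀ {y}, y ≠ 0 → φ y = 0 → ∀ v, v ∉ comp hP y → φ v = 0 := fun {y} hy hy0 v hv => by
    obtain ⟨hd, hdv⟩ := sub_facts hP hy hv
    have h1 := hφ (y - v)
    rw [map_sub, hy0, zero_sub] at h1
    exact eq_zero_of_mem hP hdv (hφ v) (by simpa using neg_mem h1)
  obtain ⟨u, hu⟩ := exists_outside hP x x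
  replace hu : u ∉ comp hP x := fun e => hu (AddSubgroup.mem_sup_left e)
  have hu0 : u ≠ 0 := fun e => hu (e ▸ zero_mem _)
  refine AddMonoidHom.ext fun v => ?_
  show φ v = 0
  by_cases hv : v ∈ comp hP x
  · by_cases hv0 : v = 0
    · rw [hv0, map_zero]
    refine out hu0 (out hx h0 u hu) v fun e => hu ?_
    rw [← comp_eq_of_mem hP hv0 hv, comp_eq_of_mem hP hv0 e]
    exact mem_comp_self hP u
  · exact out hx h0 v hv

/-- A geometric spread is the set of lines of a vector space. -/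
theorem exists_coords :
    ∃ (F : Type) (_ : Field F) (_ : Fintype F) (m : ℕ) (e : V ≃+ (Fin m → F)),
      3 ≤ m ∧ Nat.card F = q ∧ ∀ v w : V, v ≠ 0 → (w ∈ comp hP v ↔ ∃ c : F, e w = c • e v) := by
  classical
  obtain ⟨x, hx⟩ : ∃ x : V, x ≠ 0 := by
    obtain ⟨u, hu⟩ := exists_outside hP (0 : V) 0
    exact ⟨u, by rintro rfl; exact hu (zero_mem _)⟩
  set K := kernelRing hP
  haveI : Finite (AddMonoid.End V) := Finite.of_injective (fun f : AddMonoid.End V => (f : V → V))
    DFunLike.coe_injective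
  haveI : Nontrivial K := ⟨⟨1, 0, fun e => hx (by
    have := DFunLike.congr_fun (congrArg Subtype.val e) x
    simpa using this)⟩⟩
  haveI : NoZeroDivisors K := ⟨fun {f g} hfg => by
    by_cases hg : g = 0
    · exact .inr hg
    left
    refine Subtype.ext (eq_zero_of_apply hP f.2 (x := (g : AddMonoid.End V) x) (fun e => hg ?_) ?_)
    · exact Subtype.ext (eq_zero_of_apply hP g.2 hx e)
    · exact DFunLike.congr_fun (congrArg Subtype.val hfg) x⟩
  haveI : IsDomain K := NoZeroDivisors.to_isDomain _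
  haveI : Finite K := inferInstance
  letI : Field K := (Finite.isDomain_to_isField K).toField
  let F := Shrink.{0} K
  haveI : Finite F := Finite.of_equiv K (equivShrink.{0} K)
  letI : Fintype F := Fintype.ofFinite F
  let r : F →+* AddMonoid.End V := K.subtype.comp (Shrink.ringEquiv.{0} K).toRingHom
  letI : Module F V := Module.compHom V r
  have smul_def : ∀ (c : F) (v : V), c • v = r c v := fun c v => rfl
  have hsurj : ∀ {v w}, v ≠ 0 → w ∈ comp hP v → ∃ c : F, c • v = w := fun {v w} hv hw => by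
    obtain ⟨φ, hφ, e⟩ := exists_homothety hP hv hw
    refine ⟨(Shrink.ringEquiv.{0} K).symm ⟨φ, hφ⟩, ?_⟩
    rw [smul_def]
    simp [r]
    exact e
  have hmem : ∀ (c : F) (v : V), c • v ∈ comp hP v := fun c v => ((Shrink.ringEquiv.{0} K) c).2 v
  have hcard : Nat.card F = q := by
    rw [← card_comp hP hx]
    refine Nat.card_congr (Equiv.ofBijective (fun c => (⟨c • x, hmem c x⟩ : comp hP x))
      ⟨fun c d e => ?_, fun ⟨w, hw⟩ => ?_⟩)
    · exact smul_left_injective F hx (congrArg Subtype.val e)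
    · obtain ⟨c, hc⟩ := hsurj hx hw
      exact ⟨c, Subtype.ext hc⟩
  haveI : Module.Finite F V := Module.Finite.of_finite
  let b := Module.finBasis F V
  refine ⟨F, inferInstance, inferInstance, Module.finrank F V, b.equivFun.toAddEquiv, ?_, hcard,
    fun v w hv => ⟨fun hw => ?_, ?_⟩⟩
  · by_contra hlt
    obtain ⟨v, hv⟩ := exists_outside hP x x
    replace hv : v ∉ comp hP x := fun e => hv (AddSubgroup.mem_sup_left e)
    obtain ⟨u, hu⟩ := exists_outside hP x v
    have hV : Nat.card V ≤ q * q := by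
      rw [Module.natCard_eq_pow_finrank (K := F), hcard, ← sq]
      exact Nat.pow_le_pow_right (by have := hP.two_le; omega) (by omega)
    have htop : comp hP x ⊔ comp hP v = ⊤ :=
      AddSubgroup.eq_top_of_card_eq _ (le_antisymm
        (Nat.card_le_card_of_injective _ Subtype.val_injective) (by rw [card_sup hP hx hv]; exact hV))
    exact hu (htop ▸ AddSubgroup.mem_top u)
  · obtain ⟨c, rfl⟩ := hsurj hv hw
    exact ⟨c, by simp⟩
  · rintro ⟨c, hc⟩
    have : w = c • v := b.equivFun.injective (by simpa using hc)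
    exact this ▸ hmem c v

end CfsgLib.ItoDesign.Spread
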