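import Cfsg.Agent.Lib.Perm.ItoDesign.Lines
import Cfsg.Agent.Lib.Perm.ItoDesign.Spread
import Cfsg.Agent.S3732
import Mathlib.LinearAlgebra.Projectivization.Cardinality
import Mathlib.LinearAlgebra.Matrix.DotProduct
import Mathlib.LinearAlgebra.Dual.Lemmas

/-!
# The design is the design of points and hyperplanes of a projective space
-/

set_option autoImplicit false
set_option linter.unusedSectionVars false

namespace CfsgLib.ItoDesign

open MulAction Finset
open scoped LinearAlgebra.Projectivization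

variable {G Ω X : Type*} [Group G] [MulAction G Ω] [MulAction G X] [Fintype Ω] [Fintype X]
  [DecidableEq Ω] [DecidableEq X] [FaithfulSMul G Ω] [Finite G]

theorem exists_dot {F : Type*} [Field F] {m : ℕ} (φ : Module.Dual F (Fin m → F)) :
    ∃ f : Fin m → F, ∀ v, φ v = f ⬝ᵥ v := by
  refine ⟨fun i => φ (fun j => if i = j then 1 else 0), fun v => ?_⟩
  rw [LinearMap.pi_apply_eq_sum_univ φ v, dotProduct]
  exact Finset.sum_congr rfl fun i _ => by rw [smul_eq_mul, mul_comm]

theorem dot_rep_eq_zero_iff {F : Type*} [Field F] {m : ℕ} (f v : Fin m → F) (hv : v ≠ 0) :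
    f ⬝ᵥ (Projectivization.mk F v hv).rep = 0 ↔ f ⬝ᵥ v = 0 := by
  obtain ⟨a, ha⟩ := Projectivization.exists_smul_eq_mk_rep F v hv
  rw [← ha, Units.smul_def, dotProduct_smul, smul_eq_mul, mul_eq_zero]
  exact or_iff_right a.ne_zero

namespace Dsgn

variable (D : Dsgn G Ω X)

/-- A bijection with the points of a projective space carrying blocks to hyperplanes. -/
structure Model (F : Type) [Field F] (m : ℕ) where
  Ψ : Ω ≃ ℙ F (Fin (m + 1) → F)
  hyp : X → (Fin (m + 1) → F)
  hyp_ne : ∀ C, hyp C ≠ 0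
  mem_iff : ∀ C x, x ∈ D.blk C ↔ hyp C ⬝ᵥ (Ψ x).rep = 0

variable {D}

theorem exists_model_high {B : X} (hbig : D.q * D.q < Nat.card (D.El B)) :
    ∃ (F : Type) (_ : Field F) (_ : Fintype F) (m : ℕ), 2 ≤ m ∧ Nonempty (D.Model F m) := by
  classical
  letI : CommGroup (D.El B) :=
    { (inferInstance : Group (D.El B)) with mul_comm := fun a b => Subtype.ext (el_comm a.2 b.2) }
  let V := Additive (D.El B)
  let P : {z // z ∈ D.blk B} → AddSubgroup V := fun z =>
    Subgroup.toAddSubgroup ((D.Pc B z).subgroupOf (D.El B))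
  let val : V → G := fun v => ((Additive.toMul v : D.El B) : G)
  have hPmem : ∀ z v, v ∈ P z ↔ val v ∈ D.Pc B z := fun z v => Iff.rfl
  have val_el : ∀ v, val v ∈ D.El B := fun v => (Additive.toMul v : D.El B).2
  have val_add : ∀ v w, val (v + w) = val v * val w := fun v w => rfl
  have val_inj : Function.Injective val := fun v w e => Subtype.ext e
  have val_zero : val 0 = 1 := rfl
  have val_surj : ∀ g ∈ D.El B, ∃ v, val v = g := fun g hg => ⟨Additive.ofMul ⟨g, hg⟩, rfl⟩
  have hq := (D.params B).1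
  have hcard : ∀ z, Nat.card (P z) = D.q := fun z => by
    rw [← card_pc (D := D) z.2]
    exact Nat.card_congr (Subgroup.subgroupOfEquivOfLe pc_le).toEquiv
  have hspan : ∀ i j : {z // z ∈ D.blk B}, i ≠ j → ∀ v, v ∈ P i ⊔ P j ↔ val v ∈ D.Span2 B i j := by
    intro i j hij
    let f : P i × P j → D.Span2 B i j := fun p => ⟨val ((p.1 : V) + p.2), by
      rw [val_add]
      exact mul_mem (pc_le_span2.1 p.1.2) (pc_le_span2.2 p.2.2)⟩
    have hf : Function.Injective f := by
      intro a b e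
      have e1 : val ((a.1 : V) + a.2) = val ((b.1 : V) + b.2) := (congrArg Subtype.val e :)
      have e' : (a.1 : V) + a.2 = b.1 + b.2 := val_inj e1
      have e2 : (a.1 : V) - b.1 = b.2 - a.2 := by rw [sub_eq_sub_iff_add_eq_add, e', add_comm]
      have h1 : (a.1 : V) - b.1 ∈ P i := sub_mem a.1.2 b.1.2
      have h2 : (a.1 : V) - b.1 ∈ P j := by rw [e2]; exact sub_mem b.2.2 a.2.2
      have h0 : (a.1 : V) - b.1 = 0 := val_inj
        ((pc_disjoint ((hPmem i _).1 h1) ((hPmem j _).1 h2) fun e => hij (Subtype.ext e)).trans val_zero.symm)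
      rw [sub_eq_zero] at h0
      refine Prod.ext (Subtype.ext h0) (Subtype.ext ?_)
      rwa [h0, add_right_inj] at e'
    have hb := hf.bijective_of_nat_card_le (by
      rw [card_span2 i.2 j.2 fun e => hij (Subtype.ext e), Nat.card_prod, hcard, hcard])
    intro v
    rw [AddSubgroup.mem_sup]
    constructor
    · rintro ⟨a, ha, b, hb', rfl⟩
      exact (f (⟨a, ha⟩, ⟨b, hb'⟩)).2
    · intro hv
      obtain ⟨p, hp⟩ := hb.2 ⟨_, hv⟩
      have e1 : val ((p.1 : V) + p.2) = val v := (congrArg Subtype.val hp :)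
      exact ⟨p.1, p.1.2, p.2, p.2.2, val_inj e1⟩
  have hG : Spread.IsGeom P D.q := by
    refine ⟨hq, hcard, fun v => ?_, fun i j v hi hj hij => ?_, fun i j l v hij hv hl hs => ?_,
      fun i j => ?_⟩
    · obtain ⟨z, hz, h⟩ := exists_pc (val_el v)
      exact ⟨⟨z, hz⟩, h⟩
    · exact val_inj ((pc_disjoint ((hPmem i v).1 hi) ((hPmem j v).1 hj)
        fun e => hij (Subtype.ext e)).trans val_zero.symm)
    · intro w hw
      rw [hspan i j hij] at hs ⊢
      have hv1 : val v ≠ 1 := fun e => hv (val_inj e)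
      have hu := (pc_le_span2_iff ((hPmem l v).1 hl) hv1).1 hs
      by_cases hw1 : val w = 1
      · rw [hw1]; exact one_mem _
      · exact (pc_le_span2_iff ((hPmem l w).1 hw) hw1).2 hu
    · obtain ⟨j', hij', hle⟩ : ∃ j', i ≠ j' ∧ P i ⊔ P j ≤ P i ⊔ P j' := by
        by_cases hij : i = j
        · obtain ⟨w, hw, hne⟩ := Finset.exists_mem_ne (s := D.blk B)
            (by rw [D.card_blk]; exact D.two_le) i
          exact ⟨⟨w, hw⟩, fun e => hne (congrArg Subtype.val e).symm,
            by rw [← hij, sup_idem]; exact le_sup_left⟩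
        · exact ⟨j, hij, le_rfl⟩
      obtain ⟨g, hg, hg'⟩ : ∃ g ∈ D.El B, g ∉ D.Span2 B i j' := by
        by_contra hall
        push Not at hall
        have := Subgroup.card_le_of_le (H := D.El B) (K := D.Span2 B i j') hall
        rw [card_span2 i.2 j'.2 fun e => hij' (Subtype.ext e)] at this
        omega
      obtain ⟨v, rfl⟩ := val_surj g hg
      obtain ⟨z, hz, h⟩ := exists_pc hg
      exact ⟨⟨z, hz⟩, fun hle' => hg' ((hspan i j' hij' v).1 (hle (hle' ((hPmem ⟨z, hz⟩ v).2 h))))⟩
  obtain ⟨F, hF, hFt, m, e, hm, hFcard, he⟩ := Spread.exists_coords hG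
  have hcomp : ∀ (v w : V) (z : {z // z ∈ D.blk B}), v ≠ 0 → v ∈ P z →
      ((∃ c : F, e w = c • e v) ↔ w ∈ P z) := by
    intro v w z hv hz
    rw [← he v w hv, Spread.comp_eq hG hv hz]
  have hnt : ∀ z : {z // z ∈ D.blk B}, ∃ v : V, v ≠ 0 ∧ v ∈ P z := fun z => by
    obtain ⟨v, hv, hv0⟩ := (AddSubgroup.bot_or_exists_ne_zero (P z)).resolve_left fun e0 => by
      have := hcard z
      rw [e0, AddSubgroup.card_bot] at this
      omega
    exact ⟨v, hv0, hv⟩
  choose pv hpv0 hpv using hnt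
  obtain ⟨y₀, hy₀⟩ := D.exists_not_mem_blk B
  have hreg : ∀ x, x ∉ D.blk B → ∃ v : V, val v • y₀ = x := fun x hx => by
    obtain ⟨g, hg, e'⟩ := el_regular hy₀ hx
    obtain ⟨v, rfl⟩ := val_surj g hg
    exact ⟨v, e'⟩
  choose av hav using hreg
  let w : Ω → (Fin (m + 1) → F) := fun x =>
    if h : x ∈ D.blk B then Fin.cons 0 (e (pv ⟨x, h⟩)) else Fin.cons 1 (e (av x h))
  have w_in : ∀ x (h : x ∈ D.blk B), w x = Fin.cons 0 (e (pv ⟨x, h⟩)) := fun x h => dif_pos h
  have w_out : ∀ x (h : x ∉ D.blk B), w x = Fin.cons 1 (e (av x h)) := fun x h => dif_neg h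
  have w0 : ∀ x, w x ≠ 0 := by
    intro x e0
    by_cases h : x ∈ D.blk B
    · rw [w_in x h] at e0
      refine hpv0 ⟨x, h⟩ (e.injective ?_)
      rw [map_zero]
      funext i
      simpa using congrFun e0 i.succ
    · rw [w_out x h] at e0
      simpa using congrFun e0 0
  let Ψ₀ : Ω → ℙ F (Fin (m + 1) → F) := fun x => Projectivization.mk F (w x) (w0 x)
  have hinj : Function.Injective Ψ₀ := by
    intro x y hxy
    simp only [Ψ₀, Projectivization.mk_eq_mk_iff'] at hxy
    obtain ⟨c, hc⟩ := hxy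
    have c0 := congrFun hc 0
    by_cases hx : x ∈ D.blk B <;> by_cases hy : y ∈ D.blk B
    · rw [w_in x hx, w_in y hy] at hc
      have h1 : e (pv ⟨x, hx⟩) = c • e (pv ⟨y, hy⟩) := funext fun i => by
        simpa using (congrFun hc i.succ).symm
      have h2 := (hcomp _ _ ⟨y, hy⟩ (hpv0 _) (hpv _)).1 ⟨c, h1⟩
      by_contra hne
      exact hpv0 ⟨x, hx⟩ (hG.disj _ _ _ (hpv ⟨x, hx⟩) h2 fun e' => hne (congrArg Subtype.val e'))
    · exfalso
      rw [w_in x hx, w_out y hy] at hc c0
      simp at c0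
      have h1 : e (pv ⟨x, hx⟩) = c • e (av y hy) := funext fun i => by
        simpa using (congrFun hc i.succ).symm
      rw [c0, zero_smul, ← map_zero e] at h1
      exact hpv0 _ (e.injective h1)
    · exfalso
      rw [w_out x hx, w_in y hy] at c0
      simp at c0
    · rw [w_out x hx, w_out y hy] at hc c0
      simp at c0
      have h1 : e (av x hx) = e (av y hy) := funext fun i => by
        simpa [c0] using (congrFun hc i.succ).symm
      rw [← hav x hx, ← hav y hy, e.injective h1]
  have hsurj : Function.Surjective Ψ₀ := by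
    intro p
    induction p using Projectivization.ind with
    | h v hv =>
      by_cases ht : v 0 = 0
      · set a : V := e.symm (fun i => v i.succ) with ha
        have ha0 : a ≠ 0 := by
          intro e0
          refine hv (funext fun i => ?_)
          refine Fin.cases ht (fun j => ?_) i
          have := congrArg e e0
          rw [ha, e.apply_symm_apply, map_zero] at this
          simpa using congrFun this j
        obtain ⟨z, hz⟩ := hG.cover a
        obtain ⟨c, hc⟩ := (hcomp a (pv z) z ha0 hz).2 (hpv z)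
        refine ⟨z, (Projectivization.mk_eq_mk_iff' F _ _ (w0 _) hv).2 ⟨c, ?_⟩⟩
        rw [w_in _ z.2]
        refine funext fun i => Fin.cases ?_ (fun j => ?_) i
        · simp [ht]
        · simp [hc, ha]
      · set a : V := e.symm (fun i => (v 0)⁻¹ * v i.succ) with ha
        have hx : val a • y₀ ∉ D.blk B := not_mem_base_smul (D.el_ax (val_el a)) hy₀
        have hea : av _ hx = a := val_inj (el_cancel (val_el _) (val_el _) hy₀ (hav _ hx))
        refine ⟨val a • y₀, (Projectivization.mk_eq_mk_iff' F _ _ (w0 _) hv).2 ⟨(v 0)⁻¹, ?_⟩⟩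
        rw [w_out _ hx, hea]
        refine funext fun i => Fin.cases ?_ (fun j => ?_) i
        · simp [ht]
        · simp [ha]
  let Ψ : Ω ≃ ℙ F (Fin (m + 1) → F) := Equiv.ofBijective Ψ₀ ⟨hinj, hsurj⟩
  have hblocks : ∀ C, ∃ f : Fin (m + 1) → F, f ≠ 0 ∧ ∀ x, x ∈ D.blk C ↔ f ⬝ᵥ w x = 0 := by
    intro C
    by_cases hCB : C = B
    · subst hCB
      refine ⟨Pi.single 0 1, Pi.single_ne_zero_iff.2 one_ne_zero, fun x => ?_⟩
      rw [single_dotProduct, one_mul]
      by_cases h : x ∈ D.blk C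
      · simp [w_in x h, h]
      · simp [w_out x h, h]
    obtain ⟨x₁, hx₁C, hx₁⟩ : ∃ x, x ∈ D.blk C ∧ x ∉ D.blk B := by
      by_contra hall
      push Not at hall
      exact hCB (D.blk_eq_of_subset hall)
    obtain ⟨z, hzB, hzC⟩ : ∃ z, z ∈ D.blk B ∧ z ∉ D.blk C := by
      by_contra hall
      push Not at hall
      exact hCB (D.blk_eq_of_subset hall).symm
    let U : Submodule F (Fin m → F) :=
      { carrier := {u | val (e.symm u) • C = C}
        zero_mem' := by simp [val_zero]
        add_mem' := by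
          intro a b ha hb
          simp only [Set.mem_setOf_eq] at ha hb ⊢
          rw [map_add, val_add, mul_smul, hb, ha]
        smul_mem' := by
          intro c u hu
          simp only [Set.mem_setOf_eq] at hu ⊢
          by_cases h0 : e.symm u = 0
          · have : u = 0 := by simpa using congrArg e h0
            rw [this, smul_zero, map_zero, val_zero, one_smul]
          obtain ⟨l, hl⟩ := hG.cover (e.symm u)
          have h1 := (hcomp _ (e.symm (c • u)) l h0 hl).1 ⟨c, by simp⟩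
          have h2 := (pc_fixed_iff ((hPmem l _).1 hl) fun e1 => h0 (val_inj e1)).1 hu
          exact ((hPmem l _).1 h1).2 C h2 }
    have U_mem : ∀ v : V, e v ∈ U ↔ val v • C = C := fun v => by
      show val (e.symm (e v)) • C = C ↔ _
      rw [e.symm_apply_apply]
    have hp : e (pv ⟨z, hzB⟩) ∉ U := by
      rw [U_mem, pc_fixed_iff ((hPmem _ _).1 (hpv ⟨z, hzB⟩)) fun e1 => hpv0 _ (val_inj e1)]
      exact hzC
    have hcover : ∀ u, ∃ c : F, u - c • e (pv ⟨z, hzB⟩) ∈ U := by
      intro u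
      set v := e.symm u with hv
      have hy : val v • x₁ ∉ D.blk B := not_mem_base_smul (D.el_ax (val_el v)) hx₁
      have hzy : z ≠ val v • x₁ := fun e' => hy (e' ▸ hzB)
      obtain ⟨s, hsC, hs⟩ := exists_mem_line_blk (D := D) C z (val v • x₁) hzy
      have hsB : s ∉ D.blk B := fun hsB => hy (mem_blk_of_line hzy hs (left_mem_line _ _)
        (fun e' => hzC (by rwa [e'] at hsC)) hsB hzB (right_mem_line _ _))
      obtain ⟨g, hg, hgs⟩ := el_regular hy hsB
      have hgz : g ∈ D.Pc B z := mem_pc_of_line hg hy hzB (hgs ▸ hs)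
      obtain ⟨p, rfl⟩ := val_surj g hg
      have hfix : val (p + v) • C = C := by
        by_cases h1 : val (p + v) • x₁ = x₁
        · have : val (p + v) = 1 := by
            by_contra hne
            exact D.el_moves (val_el _) hne hx₁ h1
          rw [this, one_smul]
        · refine fixed_of_pair (D.el_ax (val_el _)) h1 hx₁C ?_
          rw [val_add, mul_smul, hgs]
          exact hsC
      obtain ⟨c, hc⟩ := (hcomp _ p ⟨z, hzB⟩ (hpv0 _) (hpv _)).2 hgz
      refine ⟨-c, ?_⟩
      have := (U_mem (p + v)).2 hfix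
      rw [map_add, hc, hv, e.apply_symm_apply] at this
      rwa [neg_smul, sub_neg_eq_add, add_comm]
    obtain ⟨φ, hφ0, hφU⟩ := Submodule.exists_dual_map_eq_bot_of_lt_top
      (show U < ⊤ from lt_top_iff_ne_top.2 fun e' => hp (e' ▸ Submodule.mem_top)) inferInstance
    have hker : ∀ u, φ u = 0 ↔ u ∈ U := by
      intro u
      have hle : ∀ u ∈ U, φ u = 0 := fun u hu => by
        rw [← Submodule.mem_bot F, ← hφU]
        exact Submodule.mem_map_of_mem hu
      refine ⟨fun h0 => ?_, hle u⟩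
      obtain ⟨c, hc⟩ := hcover u
      have h1 := hle _ hc
      rw [map_sub, h0, map_smul, zero_sub, neg_eq_zero, smul_eq_mul, mul_eq_zero] at h1
      rcases h1 with h1 | h1
      · rwa [h1, zero_smul, sub_zero] at hc
      · exfalso
        refine hφ0 (LinearMap.ext fun u => ?_)
        obtain ⟨c, hc⟩ := hcover u
        have := hle _ hc
        rwa [map_sub, map_smul, h1, smul_zero, sub_zero] at this
    obtain ⟨f, hf⟩ := exists_dot φ
    refine ⟨Fin.cons (- φ (e (av x₁ hx₁))) f, fun e0 => hφ0 ?_, fun x => ?_⟩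
    · have : f = 0 := funext fun i => by simpa using congrFun e0 i.succ
      exact LinearMap.ext fun u => by rw [hf, this, zero_dotProduct]; rfl
    have hdot : ∀ (t : F) (u : Fin m → F),
        (Fin.cons (- φ (e (av x₁ hx₁))) f : Fin (m + 1) → F) ⬝ᵥ Fin.cons t u =
          φ (u - t • e (av x₁ hx₁)) := by
      intro t u
      rw [map_sub, map_smul, hf u, dotProduct, Fin.sum_univ_succ]
      simp [dotProduct, mul_comm]
      ring
    by_cases h : x ∈ D.blk B
    · rw [w_in x h, hdot, zero_smul, sub_zero, hker, U_mem,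
        pc_fixed_iff ((hPmem _ _).1 (hpv ⟨x, h⟩)) fun e1 => hpv0 _ (val_inj e1)]
    · rw [w_out x h, hdot, one_smul, hker, ← map_sub, U_mem]
      have hv : val (av x h - av x₁ hx₁) • x₁ = x := by
        conv_lhs => arg 2; rw [← hav x₁ hx₁]
        rw [← mul_smul, ← val_add, sub_add_cancel, hav x h]
      constructor
      · intro hxC
        by_cases h1 : val (av x h - av x₁ hx₁) • x₁ = x₁
        · have : val (av x h - av x₁ hx₁) = 1 := by
            by_contra hne
            exact D.el_moves (val_el _) hne hx₁ h1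
          rw [this, one_smul]
        · exact fixed_of_pair (D.el_ax (val_el _)) h1 hx₁C (by rw [hv]; exact hxC)
      · intro hfx
        rw [← hv, ← hfx, D.smul_mem]
        exact hx₁C
  choose f hf0 hf using hblocks
  refine ⟨F, hF, hFt, m, by omega, ⟨⟨Ψ, f, hf0, fun C x => ?_⟩⟩⟩
  rw [hf C x]
  exact (dot_rep_eq_zero_iff (f C) (w x) (w0 x)).symm

theorem exists_model_plane (hlam : D.lam = 1) (hk : 3 ≤ D.k) :
    ∃ (F : Type) (_ : Field F) (_ : Fintype F), Nonempty (D.Model F 2) := by
  classical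
  letI : Membership Ω X := ⟨fun C x => x ∈ D.blk C⟩
  have hmem : ∀ (x : Ω) (C : X), x ∈ C ↔ x ∈ D.blk C := fun _ _ => Iff.rfl
  have hline : ∀ p r : Ω, p ≠ r → ∃! C : X, p ∈ C ∧ r ∈ C := by
    intro p r hpr
    obtain ⟨C, hC⟩ := Finset.card_eq_one.1 ((D.card_pair p r hpr).trans hlam)
    have := Finset.ext_iff.1 hC
    simp only [mem_filter, mem_univ, true_and, Finset.mem_singleton] at this
    exact ⟨C, (this C).2 rfl, fun E hE => (this E).1 hE⟩
  have hpoint : ∀ C E : X, C ≠ E → ∃ p : Ω, p ∈ C ∧ p ∈ E := by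
    intro C E hCE
    obtain ⟨p, hp⟩ := Finset.card_pos.1 (by rw [D.card_inter C E hCE]; omega : 0 < (D.blk C ∩ D.blk E).card)
    exact ⟨p, (Finset.mem_inter.1 hp).1, (Finset.mem_inter.1 hp).2⟩
  have hn : D.k + D.k ≤ Fintype.card Ω := by
    have := D.count
    rw [hlam] at this
    nlinarith
  obtain ⟨x₀, -⟩ := Fintype.exists_pair_of_one_lt_card (α := Ω) (by omega)
  obtain ⟨B, hB⟩ := D.exists_block_not_mem x₀
  have hcfg : ∃ (p₁ p₂ p₃ : Ω) (l₁ l₂ l₃ : X),
      p₁ ∉ l₂ ∧ p₁ ∉ l₃ ∧ p₂ ∉ l₁ ∧ p₂ ∈ l₂ ∧ p₂ ∈ l₃ ∧ p₃ ∉ l₁ ∧ p₃ ∈ l₂ ∧ p₃ ∉ l₃ := by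
    obtain ⟨p₂, hp₂⟩ := D.exists_mem_blk B
    obtain ⟨p₃, hp₃, hne⟩ := Finset.exists_mem_ne (s := D.blk B)
      (by rw [D.card_blk]; omega) p₂
    obtain ⟨C, hC₂, hC₃⟩ := D.exists_mem_not_mem hne.symm
    obtain ⟨p₁, -, hp₁⟩ := Finset.exists_mem_notMem_of_card_lt_card
      (s := D.blk B ∪ D.blk C) (t := (univ : Finset Ω)) (by
        have := Finset.card_union_add_card_inter (D.blk B) (D.blk C)
        rw [D.card_blk, D.card_blk, D.card_inter B C (fun e => hC₃ (e ▸ hp₃)), hlam] at this
        rw [card_univ]; omega)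
    obtain ⟨l₁, -, hl₁⟩ := Finset.exists_mem_notMem_of_card_lt_card
      (s := (univ.filter fun E => p₂ ∈ D.blk E) ∪ univ.filter fun E => p₃ ∈ D.blk E)
      (t := (univ : Finset X)) (by
        have h2 := Finset.card_union_add_card_inter (univ.filter fun E => p₂ ∈ D.blk E)
          (univ.filter fun E => p₃ ∈ D.blk E)
        rw [D.card_star, D.card_star, ← Finset.filter_and, D.card_pair _ _ hne.symm, hlam] at h2
        rw [card_univ, D.card_eq]; omega)
    simp only [Finset.mem_union, mem_filter, mem_univ, true_and, not_or] at hp₁ hl₁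
    exact ⟨p₁, p₂, p₃, l₁, B, C, hp₁.1, hp₁.2, hl₁.1, hp₂, hC₂, hl₁.2, hp₃, hC₃⟩
  letI : Configuration.ProjectivePlane Ω X :=
    { exists_point := fun C => D.exists_not_mem_blk C
      exists_line := fun p => D.exists_block_not_mem p
      eq_or_eq := fun {p r C E} h1 h2 h3 h4 => by
        by_cases hpr : p = r
        · exact .inl hpr
        · exact .inr ((hline p r hpr).unique ⟨h1, h2⟩ ⟨h3, h4⟩)
      mkPoint := fun {C E} h => (hpoint C E h).choose
      mkPoint_ax := fun {C E} h => (hpoint C E h).choose_spec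
      mkLine := fun {p r} h => (hline p r h).choose
      mkLine_ax := fun {p r} h => (hline p r h).choose_spec.1
      exists_config := hcfg }
  obtain ⟨F, hF, hFt, φ, h1, -⟩ := Cfsg.Agent.S3732.result (P := Ω) (L := X)
    fun a b c d hab hcd => by
      obtain ⟨g, hga, hgb⟩ := D.twoTrans a b c d hab hcd
      exact ⟨MulAction.toPerm g, MulAction.toPerm g, fun p l => D.smul_mem g p l, hga, hgb⟩
  have hblk : ∀ C, ∃ f : Fin 3 → F, f ≠ 0 ∧ ∀ x, x ∈ D.blk C ↔ f ⬝ᵥ (φ x).rep = 0 := by
    intro C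
    obtain ⟨W, hW, hWC⟩ := h1 C
    have hWt : W ≠ ⊤ := fun e => by
      rw [e, finrank_top, Module.finrank_pi, Fintype.card_fin] at hW
      omega
    obtain ⟨ψ, hψ0, hψW⟩ := Submodule.exists_dual_map_eq_bot_of_lt_top (lt_top_iff_ne_top.2 hWt) inferInstance
    obtain ⟨f, hf⟩ := exists_dot ψ
    have hle : W ≤ LinearMap.ker ψ := fun u hu => by
      rw [LinearMap.mem_ker, ← Submodule.mem_bot F, ← hψW]
      exact Submodule.mem_map_of_mem hu
    have hWk : W = LinearMap.ker ψ := by
      refine Submodule.eq_of_le_of_finrank_le hle ?_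
      have hlt : Module.finrank F (LinearMap.ker ψ) < Module.finrank F (Fin 3 → F) :=
        Submodule.finrank_lt fun e => hψ0 (LinearMap.ker_eq_top.1 e)
      rw [Module.finrank_pi, Fintype.card_fin] at hlt
      omega
    refine ⟨f, fun e => hψ0 (LinearMap.ext fun u => by rw [hf, e, zero_dotProduct]; rfl), fun x => ?_⟩
    rw [← hf, ← LinearMap.mem_ker, ← hWk, ← hmem, hWC x, Projectivization.submodule_eq,
      Submodule.span_singleton_le_iff_mem]
  choose f hf0 hf using hblk
  exact ⟨F, hF, hFt, ⟨⟨φ, f, hf0, hf⟩⟩⟩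

theorem exists_model [Nonempty X] :
    ∃ (F : Type) (_ : Field F) (_ : Fintype F) (m : ℕ), 2 ≤ m ∧ Nonempty (D.Model F m) := by
  obtain ⟨B⟩ := ‹Nonempty X›
  by_cases hbig : D.q * D.q < Nat.card (D.El B)
  · exact exists_model_high hbig
  obtain ⟨hq, hk, -, hE, -⟩ := D.params B
  have hk3 : 3 ≤ D.k := by have := D.one_le_lam; nlinarith
  have hlam : D.lam = 1 := by
    by_contra hne
    have h2 : 2 ≤ D.lam := by have := D.one_le_lam; omega
    obtain ⟨r, hr⟩ : ∃ r, D.q = r + 1 := ⟨D.q - 1, by omega⟩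
    rw [hE, hk, hr, Nat.add_sub_cancel] at hbig
    have hr1 : 1 ≤ r := by omega
    have : (r + 1) * (2 * r) ≤ (r + 1) * D.lam * r := by
      rw [mul_assoc]
      exact Nat.mul_le_mul_left _ (Nat.mul_le_mul_right _ h2)
    nlinarith
  obtain ⟨F, hF, hFt, M⟩ := exists_model_plane hlam hk3
  exact ⟨F, hF, hFt, 2, le_rfl, M⟩

end Dsgn

end CfsgLib.ItoDesign
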