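import Cfsg.Agent.Lib.Perm.ItoDesign.Centre

/-!
# Transitivity of the elation groups and the lines of the design
-/

set_option autoImplicit false
set_option linter.unusedSectionVars false

namespace CfsgLib.ItoDesign

open MulAction Finset

variable {G Ω X : Type*} [Group G] [MulAction G Ω] [MulAction G X] [Fintype Ω] [Fintype X]
  [DecidableEq Ω] [DecidableEq X] [FaithfulSMul G Ω] [Finite G]

namespace Dsgn

variable (D : Dsgn G Ω X)

theorem card_orbit_mul_stab {K : Type*} [Group K] [Finite K] {Y : Type*} [MulAction K Y] (y : Y) :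
    Nat.card (orbit K y) * Nat.card (stabilizer K y) = Nat.card K := by
  rw [← Nat.card_prod]
  exact Nat.card_congr (orbitProdStabilizerEquivGroup K y)

/-- The elations with given axis and centre. -/
def Pc (B : X) (z : Ω) : Subgroup G where
  carrier := {h | h ∈ D.El B ∧ ∀ C, z ∈ D.blk C → h • C = C}
  one_mem' := ⟨one_mem _, fun C _ => one_smul G C⟩
  mul_mem' := by
    rintro g g' ⟨hg, hg'⟩ ⟨hh, hh'⟩
    exact ⟨mul_mem hg hh, fun C hC => by rw [mul_smul, hh' C hC, hg' C hC]⟩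
  inv_mem' := by
    rintro g ⟨hg, hg'⟩
    exact ⟨inv_mem hg, fun C hC => by rw [inv_smul_eq_iff, hg' C hC]⟩

theorem mem_pc {B : X} {z : Ω} {h : G} :
    h ∈ D.Pc B z ↔ h ∈ D.El B ∧ ∀ C, z ∈ D.blk C → h • C = C := Iff.rfl

variable {D} {B : X} {h : G} {z w : Ω}

theorem pc_le : D.Pc B z ≤ D.El B := fun _ hh => hh.1

theorem eq_of_star_subset (hs : ∀ C, z ∈ D.blk C → w ∈ D.blk C) : z = w := by
  by_contra hne
  obtain ⟨C, hC, hC'⟩ := D.exists_mem_not_mem hne
  exact hC' (hs C hC)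

theorem pc_fixed_iff (hh : h ∈ D.Pc B z) (h1 : h ≠ 1) {C : X} : h • C = C ↔ z ∈ D.blk C := by
  obtain ⟨u, -, hu⟩ := exists_centre hh.1 h1
  have : z = u := eq_of_star_subset fun E hE => (hu E).1 (hh.2 E hE)
  rw [this]; exact hu C

theorem pc_centre_mem (hh : h ∈ D.Pc B z) (h1 : h ≠ 1) : z ∈ D.blk B :=
  (pc_fixed_iff hh h1).1 (D.el_smul_self hh.1)

theorem pc_disjoint (hh : h ∈ D.Pc B z) (hw : h ∈ D.Pc B w) (hzw : z ≠ w) : h = 1 := by
  by_contra h1
  exact hzw (eq_of_star_subset fun C hC => (pc_fixed_iff hw h1).1 (hh.2 C hC))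

theorem exists_pc (hh : h ∈ D.El B) : ∃ z ∈ D.blk B, h ∈ D.Pc B z := by
  by_cases h1 : h = 1
  · obtain ⟨z, hz⟩ := D.exists_mem_blk B
    exact ⟨z, hz, h1 ▸ one_mem _⟩
  obtain ⟨z, hzB, hz⟩ := exists_centre hh h1
  exact ⟨z, hzB, hh, fun C hC => (hz C).2 hC⟩

theorem conj_mem_pc (g : G) (hh : h ∈ D.Pc B z) : g * h * g⁻¹ ∈ D.Pc (g • B) (g • z) := by
  refine ⟨D.conj_mem_el hh.1, fun C hC => ?_⟩
  rw [mul_smul, mul_smul, hh.2 (g⁻¹ • C) ?_, smul_inv_smul]
  rw [D.mem_blk_smul_iff, inv_inv]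
  exact hC

theorem card_pc_le (hz : z ∈ D.blk B) (hw : w ∈ D.blk B) :
    Nat.card (D.Pc B z) ≤ Nat.card (D.Pc B w) := by
  obtain ⟨g, hgB, hgz⟩ := D.trans_in B z w hz hw
  refine Nat.card_le_card_of_injective
    (fun s => (⟨g * (s : G) * g⁻¹, by
      have := conj_mem_pc g s.2
      rwa [hgB, hgz] at this⟩ : D.Pc B w)) fun s t e => Subtype.ext ?_
  simpa using congrArg Subtype.val e

theorem card_pc_eq (hz : z ∈ D.blk B) (hw : w ∈ D.blk B) :
    Nat.card (D.Pc B z) = Nat.card (D.Pc B w) :=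
  le_antisymm (card_pc_le hz hw) (card_pc_le hw hz)

theorem card_eq_one_add {q : ℕ} (hq : ∀ z ∈ D.blk B, Nat.card (D.Pc B z) = q) (S : Finset Ω)
    (hS : S ⊆ D.blk B) {W : Subgroup G}
    (hW : ∀ h, h ∈ W ↔ h = 1 ∨ ∃ z ∈ S, h ∈ D.Pc B z) : Nat.card W = 1 + S.card * (q - 1) := by
  classical
  haveI := Fintype.ofFinite G
  let T : Ω → Finset G := fun z => univ.filter fun h => h ∈ D.Pc B z ∧ h ≠ 1
  have hT : ∀ z ∈ S, (T z).card = q - 1 := by
    intro z hz
    rw [show T z = (univ.filter fun h => h ∈ D.Pc B z).erase 1 by ext h; simp [T, and_comm],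
      Finset.card_erase_of_mem (by simp [one_mem]), ← Fintype.card_subtype,
      ← Nat.card_eq_fintype_card, ← hq z (hS hz)]
  have hdisj : ((S : Finset Ω) : Set Ω).PairwiseDisjoint T := fun z _ w _ hzw =>
    Finset.disjoint_left.2 fun h hh hh' => by
      simp only [T, mem_filter, mem_univ, true_and] at hh hh'
      exact hh.2 (pc_disjoint hh.1 hh'.1 hzw)
  have e : (univ.filter fun h => h ∈ W) = insert 1 (S.biUnion T) := by
    ext h
    simp only [mem_filter, mem_univ, true_and, hW, Finset.mem_insert, Finset.mem_biUnion, T]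
    constructor
    · rintro (h1 | ⟨z, hz, hh⟩)
      · exact .inl h1
      · by_cases h1 : h = 1
        · exact .inl h1
        · exact .inr ⟨z, hz, hh, h1⟩
    · rintro (h1 | ⟨z, hz, hh, -⟩)
      · exact .inl h1
      · exact .inr ⟨z, hz, hh⟩
  have h1 : (1 : G) ∉ S.biUnion T := by simp [T]
  rw [Nat.card_eq_fintype_card, Fintype.card_subtype, e, Finset.card_insert_of_notMem h1,
    Finset.card_biUnion hdisj, Finset.sum_congr rfl hT, Finset.sum_const, smul_eq_mul, add_comm]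

variable (D)

/-- The order of the design geometry. -/
def q : ℕ := (D.k - 1) / D.lam

theorem params (B : X) : 2 ≤ D.q ∧ D.k = 1 + D.q * D.lam ∧
    (∀ z ∈ D.blk B, Nat.card (D.Pc B z) = D.q) ∧ Nat.card (D.El B) = 1 + D.k * (D.q - 1) ∧
    Nat.card (D.El B) + D.k = Fintype.card Ω := by
  classical
  obtain ⟨z₀, hz₀⟩ := D.exists_mem_blk B
  set q := Nat.card (D.Pc B z₀)
  have hq : ∀ z ∈ D.blk B, Nat.card (D.Pc B z) = q := fun z hz => card_pc_eq hz hz₀
  have hE : Nat.card (D.El B) = 1 + D.k * (q - 1) := by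
    rw [card_eq_one_add hq (D.blk B) subset_rfl (W := D.El B) fun h => ⟨fun hh => ?_, ?_⟩, D.card_blk]
    · exact .inr (exists_pc hh)
    · rintro (rfl | ⟨z, -, hh⟩)
      · exact one_mem _
      · exact hh.1
  have hq2 : 2 ≤ q := by
    by_contra hlt
    have h1 : 2 ≤ Nat.card (D.El B) := by
      have : Nontrivial (D.El B) := (Subgroup.nontrivial_iff_ne_bot _).2 (D.el_ne_bot B)
      exact Finite.one_lt_card
    rw [hE, show q - 1 = 0 by omega, mul_zero] at h1
    omega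
  have hstab : ∀ C, C ≠ B →
      Nat.card (D.El B ⊓ stabilizer G C : Subgroup G) = 1 + D.lam * (q - 1) := by
    intro C hC
    rw [card_eq_one_add hq (D.blk C ∩ D.blk B) Finset.inter_subset_right
      (W := D.El B ⊓ stabilizer G C) fun h => ⟨fun hh => ?_, ?_⟩, D.card_inter C B hC]
    · by_cases h1 : h = 1
      · exact .inl h1
      obtain ⟨z, hz, hhz⟩ := exists_pc hh.1
      exact .inr ⟨z, Finset.mem_inter.2 ⟨(pc_fixed_iff hhz h1).1 hh.2, hz⟩, hhz⟩
    · rintro (rfl | ⟨z, hz, hh⟩)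
      · exact one_mem _
      · exact ⟨hh.1, hh.2 C (Finset.mem_inter.1 hz).1⟩
  have horb : ∀ C, C ≠ B →
      Nat.card (orbit (D.El B) C) * (1 + D.lam * (q - 1)) = Nat.card (D.El B) := fun C hC => by
    rw [← hstab C hC, ← card_orbit_mul_stab (K := D.El B) C]
    congr 1
    exact Nat.card_congr
      { toFun := fun d => ⟨⟨d.1, d.2.1⟩, d.2.2⟩
        invFun := fun d => ⟨d.1.1, d.1.2, d.2⟩
        left_inv := fun d => rfl
        right_inv := fun d => rfl }
  obtain ⟨C₀, hC₀⟩ := D.exists_block_not_mem z₀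
  have hC₀B : C₀ ≠ B := fun e => hC₀ (e ▸ hz₀)
  set ℓ := Nat.card (orbit (D.El B) C₀)
  have hℓ : ∀ C, C ≠ B → Nat.card (orbit (D.El B) C) = ℓ := fun C hC =>
    Nat.eq_of_mul_eq_mul_right (by omega) ((horb C hC).trans (horb C₀ hC₀B).symm)
  have hge : q ≤ ℓ := by
    refine Nat.card_le_card_of_injective
      (fun s : D.Pc B z₀ => (⟨(⟨s.1, s.2.1⟩ : D.El B) • C₀, mem_orbit _ _⟩ : orbit (D.El B) C₀))
      fun s t e => ?_
    have e' : (s : G) • C₀ = (t : G) • C₀ := congrArg Subtype.val e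
    by_contra hne
    refine hC₀ ((pc_fixed_iff (mul_mem (inv_mem t.2) s.2) fun e1 => hne ?_).1 ?_)
    · exact Subtype.ext (inv_mul_eq_one.1 e1).symm
    · rw [mul_smul, e', inv_smul_smul]
  let S : SubMulAction (D.El B) X :=
    { carrier := {C | z₀ ∈ D.blk C ∧ C ≠ B}
      smul_mem' := fun g C hC => ⟨by
          show z₀ ∈ D.blk ((g : G) • C)
          rw [← D.el_fix g.2 hz₀, D.smul_mem]
          exact hC.1,
        fun e => hC.2 (smul_left_cancel (g : G) ((show (g : G) • C = B from e).trans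
          (D.el_smul_self g.2).symm))⟩ }
  have hdvd : ℓ ∣ D.k - 1 := by
    have hS : Nat.card S = D.k - 1 := by
      rw [Nat.subtype_card ((univ.filter fun C => z₀ ∈ D.blk C).erase B) fun C => ?_,
        Finset.card_erase_of_mem (s := univ.filter fun C => z₀ ∈ D.blk C)
          (mem_filter.2 ⟨mem_univ _, hz₀⟩), D.card_star]
      simp only [Finset.mem_erase, mem_filter, mem_univ, true_and]
      exact ⟨fun h => ⟨h.2, h.1⟩, fun h => ⟨h.2, h.1⟩⟩
    have : Finite S := Finite.of_injective (fun c : S => (c : X)) Subtype.val_injective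
    have := Fintype.ofFinite (orbitRel.Quotient (D.El B) S)
    rw [← hS, Nat.card_congr (selfEquivSigmaOrbits (D.El B) S), Nat.card_sigma]
    refine Finset.dvd_sum fun c _ => dvd_of_eq ?_
    rw [← hℓ (c.out : X) c.out.2.2]
    refine (Nat.card_congr (Equiv.subtypeEquiv (p := fun e : S => e ∈ orbit (D.El B) c.out)
      (q := fun e : S => (e : X) ∈ orbit (D.El B) (c.out : X)) (Equiv.refl _) fun e => ?_)).trans ?_ |>.symm
    · exact ⟨fun ⟨g, hg⟩ => ⟨g, congrArg Subtype.val hg⟩, fun ⟨g, hg⟩ => ⟨g, Subtype.ext hg⟩⟩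
    · exact Nat.card_congr
        { toFun := fun e => ⟨((e : S) : X), e.2⟩
          invFun := fun e => ⟨⟨e.1, by
            obtain ⟨g, hg⟩ := e.2
            exact hg ▸ S.smul_mem g c.out.2⟩, e.2⟩
          left_inv := fun e => rfl
          right_inv := fun e => rfl }
  have hℓq : ℓ = q := by
    refine le_antisymm (Nat.le_of_dvd (by omega) ?_) hge
    have h1 : ℓ ∣ Nat.card (D.El B) := ⟨_, (horb C₀ hC₀B).symm⟩
    have h2 : Nat.card (D.El B) = q + (D.k - 1) * (q - 1) := by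
      obtain ⟨j, hj⟩ : ∃ j, D.k = j + 1 := ⟨D.k - 1, by have := D.two_le; omega⟩
      rw [hE, hj, Nat.add_mul, one_mul, Nat.add_sub_cancel]
      omega
    exact (Nat.dvd_add_left (dvd_mul_of_dvd_left hdvd _)).1 (h2 ▸ h1)
  have hk : D.k = 1 + q * D.lam := by
    have h1 := horb C₀ hC₀B
    rw [show Nat.card (orbit (D.El B) C₀) = q from hℓq, hE] at h1
    obtain ⟨r, hr⟩ : ∃ r, q = r + 2 := ⟨q - 2, by omega⟩
    rw [hr, show r + 2 - 1 = r + 1 by omega] at h1
    rw [hr]
    nlinarith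
  have hqq : D.q = q := by
    rw [Dsgn.q, hk, Nat.add_sub_cancel_left, Nat.mul_div_cancel _ D.one_le_lam]
  rw [hqq]
  refine ⟨hq2, hk, hq, hE, ?_⟩
  have hc := D.count
  obtain ⟨r, hr⟩ : ∃ r, q = r + 1 := ⟨q - 1, by omega⟩
  rw [hr] at hk
  rw [hE, hr, Nat.add_sub_cancel]
  refine Nat.eq_of_mul_eq_mul_left D.one_le_lam ?_
  rw [hk] at hc ⊢
  ring_nf at hc ⊢
  omega

theorem two_le_q [Nonempty X] : 2 ≤ D.q := (D.params (Classical.arbitrary X)).1

variable {D}

theorem card_pc (hz : z ∈ D.blk B) : Nat.card (D.Pc B z) = D.q := (D.params B).2.2.1 z hz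

theorem el_regular {x y : Ω} (hx : x ∉ D.blk B) (hy : y ∉ D.blk B) :
    ∃ h ∈ D.El B, h • x = y := by
  let f : D.El B → {p : Ω // p ∉ D.blk B} := fun g =>
    ⟨(g : G) • x, not_mem_base_smul (D.el_ax g.2) hx⟩
  have hf : Function.Injective f := fun s t e => by
    have e' : (s : G) • x = (t : G) • x := congrArg Subtype.val e
    by_contra hne
    refine D.el_moves (mul_mem (inv_mem t.2) s.2) (fun e1 => hne ?_) hx ?_
    · exact Subtype.ext (inv_mul_eq_one.1 e1).symm
    · rw [mul_smul, e', inv_smul_smul]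
  have hcard : Nat.card {p : Ω // p ∉ D.blk B} ≤ Nat.card (D.El B) := by
    rw [Nat.card_eq_fintype_card, Fintype.card_subtype_compl, Fintype.card_coe, D.card_blk]
    have := (D.params B).2.2.2.2
    omega
  obtain ⟨g, hg⟩ := (hf.bijective_of_nat_card_le hcard).2 ⟨y, hy⟩
  exact ⟨g, g.2, congrArg Subtype.val hg⟩

theorem el_cancel {g g' : G} (hg : g ∈ D.El B) (hg' : g' ∈ D.El B) {x : Ω} (hx : x ∉ D.blk B)
    (e : g • x = g' • x) : g = g' := by
  by_contra hne
  refine D.el_moves (mul_mem (inv_mem hg') hg) (fun e1 => hne (inv_mul_eq_one.1 e1).symm) hx ?_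
  rw [mul_smul, e, inv_smul_smul]

variable (D)

/-- The line through two points. -/
def line (x y : Ω) : Finset Ω := univ.filter fun p => ∀ C, x ∈ D.blk C → y ∈ D.blk C → p ∈ D.blk C

variable {D}

theorem mem_line {x y p : Ω} :
    p ∈ D.line x y ↔ ∀ C, x ∈ D.blk C → y ∈ D.blk C → p ∈ D.blk C := by simp [line]

theorem left_mem_line (x y : Ω) : x ∈ D.line x y := mem_line.2 fun _ h _ => h

theorem right_mem_line (x y : Ω) : y ∈ D.line x y := mem_line.2 fun _ _ h => h

theorem line_comm (x y : Ω) : D.line x y = D.line y x := by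
  ext p
  simp only [mem_line]
  exact ⟨fun h C a b => h C b a, fun h C a b => h C b a⟩

theorem line_self (x : Ω) : D.line x x = {x} := by
  ext p
  rw [mem_line, Finset.mem_singleton]
  exact ⟨fun h => (eq_of_star_subset fun C hC => h C hC hC).symm, fun e C hC _ => e ▸ hC⟩

theorem pair_iff_of_mem_line {x y p : Ω} (hxy : x ≠ y) (hp : p ∈ D.line x y) (hpx : p ≠ x) (C : X) :
    (x ∈ D.blk C ∧ p ∈ D.blk C) ↔ (x ∈ D.blk C ∧ y ∈ D.blk C) := by
  have e : (univ.filter fun C => x ∈ D.blk C ∧ y ∈ D.blk C) =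
      univ.filter fun C => x ∈ D.blk C ∧ p ∈ D.blk C :=
    Finset.eq_of_subset_of_card_le
      (fun E hE => by
        rw [mem_filter] at hE ⊢
        exact ⟨hE.1, hE.2.1, mem_line.1 hp E hE.2.1 hE.2.2⟩)
      (by rw [D.card_pair x p hpx.symm, D.card_pair x y hxy])
  simpa using (Finset.ext_iff.1 e C).symm

theorem line_eq_of_mem {x y p : Ω} (hxy : x ≠ y) (hp : p ∈ D.line x y) (hpx : p ≠ x) :
    D.line x p = D.line x y := by
  ext r
  simp only [mem_line]
  exact ⟨fun h C a b => by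
      have := (pair_iff_of_mem_line hxy hp hpx C).2 ⟨a, b⟩
      exact h C this.1 this.2,
    fun h C a b => by
      have := (pair_iff_of_mem_line hxy hp hpx C).1 ⟨a, b⟩
      exact h C this.1 this.2⟩

theorem line_eq {x y p r : Ω} (hxy : x ≠ y) (hp : p ∈ D.line x y) (hr : r ∈ D.line x y) (hpr : p ≠ r) :
    D.line p r = D.line x y := by
  by_cases hrx : r = x
  · subst hrx
    rw [line_comm, line_eq_of_mem hxy hp hpr]
  have h1 := line_eq_of_mem hxy hr hrx
  rw [line_comm, ← h1, line_comm x r]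
  rw [← h1, line_comm x r] at hp
  exact line_eq_of_mem (D := D) hrx hp hpr

theorem mem_blk_of_line {x y p r : Ω} (hxy : x ≠ y) (hp : p ∈ D.line x y) (hr : r ∈ D.line x y)
    (hpr : p ≠ r) {C : X} (hpC : p ∈ D.blk C) (hrC : r ∈ D.blk C) {s : Ω} (hs : s ∈ D.line x y) :
    s ∈ D.blk C := by
  rw [← line_eq hxy hp hr hpr] at hs
  exact mem_line.1 hs C hpC hrC

theorem pc_line (hh : h ∈ D.Pc B z) (h1 : h ≠ 1) {y : Ω} (hy : y ∉ D.blk B) :
    z ∈ D.line y (h • y) ∧ h • y ∈ D.line z y := by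
  refine ⟨mem_line.2 fun C a b => ?_, mem_line.2 fun C a b => ?_⟩
  · exact (pc_fixed_iff hh h1).1 (fixed_of_pair (D.el_ax hh.1) (D.el_moves hh.1 h1 hy) a b)
  · rw [← hh.2 C a, D.smul_mem]
    exact b

/-- Every line meets every block. -/
theorem exists_mem_line_blk (B : X) (x y : Ω) (hxy : x ≠ y) :
    ∃ z ∈ D.blk B, z ∈ D.line x y := by
  by_cases hx : x ∈ D.blk B
  · exact ⟨x, hx, left_mem_line x y⟩
  by_cases hy : y ∈ D.blk B
  · exact ⟨y, hy, right_mem_line x y⟩
  obtain ⟨g, hg, rfl⟩ := el_regular hx hy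
  obtain ⟨z, hz, hgz⟩ := exists_pc hg
  exact ⟨z, hz, (pc_line hgz (fun e => hxy (by rw [e, one_smul])) hx).1⟩

theorem mem_pc_of_line {g : G} (hg : g ∈ D.El B) {y : Ω} (hy : y ∉ D.blk B) (hz : z ∈ D.blk B)
    (hgy : g • y ∈ D.line z y) : g ∈ D.Pc B z := by
  by_cases h1 : g = 1
  · exact h1 ▸ one_mem _
  obtain ⟨u, hu, hgu⟩ := exists_pc hg
  have hzy : z ≠ y := fun e => hy (e ▸ hz)
  have hne : g • y ≠ y := D.el_moves hg h1 hy
  have hu' := (pc_line hgu h1 hy).1
  rw [line_eq hzy (right_mem_line z y) hgy hne.symm] at hu'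
  have : u = z := by
    by_contra huz
    exact hy (mem_blk_of_line hzy hu' (left_mem_line z y) huz hu hz (right_mem_line z y))
  exact this ▸ hgu

theorem card_line_base {y : Ω} (hz : z ∈ D.blk B) (hy : y ∉ D.blk B) :
    (D.line z y).card = D.q + 1 := by
  classical
  have hzy : z ≠ y := fun e => hy (e ▸ hz)
  haveI := Fintype.ofFinite G
  have e : (D.line z y).erase z = (univ.filter fun g => g ∈ D.Pc B z).image (fun g => g • y) := by
    ext p
    simp only [Finset.mem_erase, Finset.mem_image, mem_filter, mem_univ, true_and]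
    refine ⟨fun ⟨hpz, hp⟩ => ?_, ?_⟩
    · have hpB : p ∉ D.blk B := fun hpB =>
        hy (mem_blk_of_line hzy hp (left_mem_line z y) hpz hpB hz (right_mem_line z y))
      obtain ⟨g, hg, rfl⟩ := el_regular hy hpB
      exact ⟨g, mem_pc_of_line hg hy hz hp, rfl⟩
    · rintro ⟨g, hg, rfl⟩
      refine ⟨fun e => not_mem_base_smul (D.el_ax hg.1) hy (e ▸ hz), ?_⟩
      by_cases h1 : g = 1
      · rw [h1, one_smul]; exact right_mem_line z y
      · exact (pc_line hg h1 hy).2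
  have h2 := congrArg Finset.card e
  rw [Finset.card_erase_of_mem (left_mem_line z y), Finset.card_image_of_injOn, ← Fintype.card_subtype,
    ← Nat.card_eq_fintype_card, card_pc hz] at h2
  · have : 0 < (D.line z y).card := Finset.card_pos.2 ⟨z, left_mem_line z y⟩
    omega
  · intro g hg g' hg' e'
    simp only [Finset.coe_filter, mem_univ, true_and, Set.mem_setOf_eq] at hg hg'
    exact el_cancel hg.1 hg'.1 hy e'

theorem card_line {x y : Ω} (hxy : x ≠ y) : (D.line x y).card = D.q + 1 := by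
  obtain ⟨B, hx, hy⟩ := D.exists_mem_not_mem hxy
  exact card_line_base (B := B) hx hy

theorem pc_comm_distinct {a b : G} (ha : a ∈ D.Pc B z) (hb : b ∈ D.Pc B w) (hzw : z ≠ w) :
    a * b = b * a := by
  by_cases ha1 : a = 1
  · simp [ha1]
  by_cases hb1 : b = 1
  · simp [hb1]
  have hzB := pc_centre_mem ha ha1
  have hwB := pc_centre_mem hb hb1
  have h1 : a * b * a⁻¹ * b⁻¹ ∈ D.Pc B z := by
    have := conj_mem_pc b (inv_mem ha)
    rw [D.el_smul_self hb.1, D.el_fix hb.1 hzB] at this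
    have := mul_mem ha this
    simpa [mul_assoc] using this
  have h2 : a * b * a⁻¹ * b⁻¹ ∈ D.Pc B w := by
    have := conj_mem_pc a hb
    rw [D.el_smul_self ha.1, D.el_fix ha.1 hwB] at this
    exact mul_mem this (inv_mem hb)
  have := pc_disjoint h1 h2 hzw
  exact mul_inv_eq_iff_eq_mul.1 (mul_inv_eq_one.1 this)

theorem el_comm {a b : G} (ha : a ∈ D.El B) (hb : b ∈ D.El B) : a * b = b * a := by
  by_cases ha1 : a = 1
  · simp [ha1]
  obtain ⟨z, hz, haz⟩ := exists_pc ha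
  obtain ⟨u, -, hbu⟩ := exists_pc hb
  by_cases hu : z ≠ u
  · exact pc_comm_distinct haz hbu hu
  push Not at hu
  subst hu
  obtain ⟨w, hw, hwz⟩ := Finset.exists_mem_ne (s := D.blk B)
    (by rw [D.card_blk]; exact D.two_le) z
  obtain ⟨c, hc, hc1⟩ := (Subgroup.bot_or_exists_ne_one (D.Pc B w)).resolve_left fun e => by
    have h1 := card_pc (D := D) hw
    rw [e, Subgroup.card_bot] at h1
    have := (D.params B).1
    omega
  have hac := pc_comm_distinct haz hc (Ne.symm hwz)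
  obtain ⟨v, -, hv⟩ := exists_pc (mul_mem hbu.1 hc.1)
  have hvz : z ≠ v := by
    intro e
    subst e
    have : c ∈ D.Pc B z := by
      have := mul_mem (inv_mem hbu) hv
      rwa [inv_mul_cancel_left] at this
    exact hc1 (pc_disjoint this hc (Ne.symm hwz))
  have := pc_comm_distinct haz hv hvz
  calc a * b = a * (b * c) * c⁻¹ := by group
    _ = b * (c * a) * c⁻¹ := by rw [this, mul_assoc b c a]
    _ = b * a := by rw [← hac]; group

variable (D)

/-- The span of two centres. -/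
def Span2 (B : X) (z w : Ω) : Subgroup G where
  carrier := {h | h ∈ D.El B ∧ ∀ C, z ∈ D.blk C → w ∈ D.blk C → h • C = C}
  one_mem' := ⟨one_mem _, fun C _ _ => one_smul G C⟩
  mul_mem' := by
    rintro g g' ⟨hg, hg'⟩ ⟨hh, hh'⟩
    exact ⟨mul_mem hg hh, fun C hC hC' => by rw [mul_smul, hh' C hC hC', hg' C hC hC']⟩
  inv_mem' := by
    rintro g ⟨hg, hg'⟩
    exact ⟨inv_mem hg, fun C hC hC' => by rw [inv_smul_eq_iff, hg' C hC hC']⟩

variable {D}

theorem pc_le_span2_iff {u : Ω} {g : G} (hg : g ∈ D.Pc B u) (h1 : g ≠ 1) :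
    g ∈ D.Span2 B z w ↔ u ∈ D.line z w := by
  rw [mem_line]
  exact ⟨fun hh C a b => (pc_fixed_iff hg h1).1 (hh.2 C a b),
    fun hh => ⟨hg.1, fun C a b => hg.2 C (hh C a b)⟩⟩

theorem pc_le_span2 : D.Pc B z ≤ D.Span2 B z w ∧ D.Pc B w ≤ D.Span2 B z w :=
  ⟨fun _ hg => ⟨hg.1, fun C a _ => hg.2 C a⟩, fun _ hg => ⟨hg.1, fun C _ b => hg.2 C b⟩⟩

theorem card_span2 (hz : z ∈ D.blk B) (hw : w ∈ D.blk B) (hzw : z ≠ w) :
    Nat.card (D.Span2 B z w) = D.q * D.q := by
  have hsub : D.line z w ⊆ D.blk B := fun p hp => mem_line.1 hp B hz hw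
  rw [card_eq_one_add (fun u hu => card_pc hu) (D.line z w) hsub (W := D.Span2 B z w)
    fun g => ⟨fun hg => ?_, ?_⟩, card_line hzw]
  · obtain ⟨r, hr⟩ : ∃ r, D.q = r + 1 := ⟨D.q - 1, by have := (D.params B).1; omega⟩
    rw [hr, Nat.add_sub_cancel]
    ring
  · by_cases h1 : g = 1
    · exact .inl h1
    obtain ⟨u, -, hgu⟩ := exists_pc hg.1
    exact .inr ⟨u, (pc_le_span2_iff hgu h1).1 hg, hgu⟩
  · rintro (rfl | ⟨u, hu, hg⟩)
    · exact one_mem _
    · by_cases h1 : g = 1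
      · exact h1 ▸ one_mem _
      · exact (pc_le_span2_iff hg h1).2 hu

end Dsgn

end CfsgLib.ItoDesign
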