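import Cfsg.Agent.Lib.Perm.ItoDesign.Coords
import Cfsg.Agent.Lib.Classical.SLGroup
import Mathlib.LinearAlgebra.Matrix.SchurComplement

/-!
# The elations generate the projective special linear group
-/

set_option autoImplicit false
set_option linter.unusedSectionVars false

namespace CfsgLib.ItoDesign

open MulAction Finset
open scoped LinearAlgebra.Projectivization

variable {G Ω X : Type*} [Group G] [MulAction G Ω] [MulAction G X] [Fintype Ω] [Fintype X]
  [DecidableEq Ω] [DecidableEq X] [FaithfulSMul G Ω] [Finite G]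

/-- The transvection with given functional and centre. -/
def transv {F : Type*} [Field F] {n : ℕ} (a f : Fin n → F) (h : f ⬝ᵥ a = 0) :
    Matrix.SpecialLinearGroup (Fin n) F :=
  ⟨1 + Matrix.replicateCol Unit a * Matrix.replicateRow Unit f, by
    rw [Matrix.det_one_add_replicateCol_mul_replicateRow, h, add_zero]⟩

theorem transv_smul {F : Type*} [Field F] {n : ℕ} (a f : Fin n → F) (h : f ⬝ᵥ a = 0)
    (v : Fin n → F) : transv a f h • v = v + (f ⬝ᵥ v) • a := by
  rw [Matrix.SpecialLinearGroup.smul_def, Matrix.smul_eq_mulVec, transv]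
  rw [Matrix.add_mulVec, Matrix.one_mulVec]
  refine funext fun i => ?_
  simp only [Pi.add_apply, Pi.smul_apply, smul_eq_mul, Matrix.mulVec, dotProduct, Matrix.mul_apply,
    Matrix.replicateCol_apply, Matrix.replicateRow_apply, Finset.univ_unique, Finset.sum_singleton,
    Finset.sum_mul]
  congr 1
  exact Finset.sum_congr rfl fun j _ => by ring

theorem mem_span_pair_of_dot {F : Type*} [Field F] {n : ℕ} (a v w : Fin n → F)
    (h : ∀ f : Fin n → F, f ≠ 0 → f ⬝ᵥ a = 0 → f ⬝ᵥ v = 0 → f ⬝ᵥ w = 0) :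
    ∃ α β : F, α • a + β • v = w := by
  rw [← Submodule.mem_span_pair]
  by_contra hw
  obtain ⟨φ, hφw, hφ⟩ := Submodule.exists_dual_map_eq_bot_of_notMem hw inferInstance
  obtain ⟨f, hf⟩ := exists_dot φ
  have hz : ∀ u ∈ Submodule.span F {a, v}, f ⬝ᵥ u = 0 := fun u hu => by
    rw [← hf, ← Submodule.mem_bot F, ← hφ]
    exact Submodule.mem_map_of_mem hu
  refine hφw ?_
  by_cases hf0 : f = 0
  · rw [hf, hf0, zero_dotProduct]
  · rw [hf]
    exact h f hf0 (hz a (Submodule.subset_span (by simp))) (hz v (Submodule.subset_span (by simp)))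

namespace Dsgn

variable {D : Dsgn G Ω X}

/-- A block preserving permutation fixing a block pointwise and all blocks through a point of it
is an elation with this centre as soon as it agrees with it at one further point. -/
theorem persp_eq {C : X} {z : Ω} {h : G} (hh : h ∈ D.Pc C z) (hz : z ∈ D.blk C) (τ : Ω → Ω)
    (hinj : Function.Injective τ) (hinc : ∀ E, ∃ E', ∀ x, x ∈ D.blk E' ↔ τ x ∈ D.blk E)
    (hax : ∀ x ∈ D.blk C, τ x = x) (hctr : ∀ E, z ∈ D.blk E → ∀ x, x ∈ D.blk E → τ x ∈ D.blk E)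
    {y : Ω} (hy : y ∉ D.blk C) (he : h • y = τ y) (p : Ω) : h • p = τ p := by
  have step : ∀ y, y ∉ D.blk C → h • y = τ y → ∀ p, p ∉ D.blk C → p ∉ D.line z y → h • p = τ p := by
    intro y hy he p hp hpl
    have hzy : z ≠ y := fun e => hy (e ▸ hz)
    have hzp : z ≠ p := fun e => hp (e ▸ hz)
    have hyp : y ≠ p := fun e => hpl (e ▸ right_mem_line z y)
    obtain ⟨w, hwC, hw⟩ := exists_mem_line_blk (D := D) C y p hyp
    have hwz : w ≠ z := by
      intro e
      subst e
      rw [line_eq hyp hw (left_mem_line y p) hzy] at hpl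
      exact hpl (right_mem_line y p)
    have hyw : y ≠ w := fun e => hy (e ▸ hwC)
    have hpw : p ∈ D.line y w := by
      rw [line_eq_of_mem hyp hw hyw.symm]; exact right_mem_line y p
    have hty : τ y ∉ D.blk C := fun e => hy ((hinj (hax _ e)) ▸ e)
    have hne : τ y ≠ w := fun e => hty (e ▸ hwC)
    have h1 : τ p ∈ D.line (τ y) w := mem_line.2 fun E a b => by
      obtain ⟨E', hE'⟩ := hinc E
      rw [← hE']
      refine mem_line.1 hpw E' ((hE' y).2 a) ((hE' w).2 ?_)
      rwa [hax w hwC]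
    have h2 : τ p ∈ D.line z p := mem_line.2 fun E a b => hctr E a p b
    have h3 : h • p ∈ D.line (τ y) w := mem_line.2 fun E a b => by
      rw [← smul_inv_smul h E, D.smul_mem]
      refine mem_line.1 hpw (h⁻¹ • E) ?_ ?_
      · rw [D.mem_blk_smul_iff, inv_inv, he]; exact a
      · rw [D.mem_blk_smul_iff, inv_inv, D.el_fix hh.1 hwC]; exact b
    have h4 : h • p ∈ D.line z p := mem_line.2 fun E a b => by
      rw [← hh.2 E a, D.smul_mem]; exact b
    by_contra hne'
    have e1 := line_eq hne h3 h1 hne'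
    rw [line_eq hzp h4 h2 hne'] at e1
    exact hp (mem_blk_of_line hzp (left_mem_line z p) (e1 ▸ right_mem_line (τ y) w) hwz.symm hz hwC
      (right_mem_line z p))
  by_cases hp : p ∈ D.blk C
  · rw [D.el_fix hh.1 hp, hax p hp]
  by_cases hpl : p ∈ D.line z y
  swap
  · exact step y hy he p hp hpl
  have hzy : z ≠ y := fun e => hy (e ▸ hz)
  obtain ⟨p₀, hp₀, hp₀l⟩ : ∃ p₀, p₀ ∉ D.blk C ∧ p₀ ∉ D.line z y := by
    by_contra hall
    push Not at hall
    have hsub : univ \ D.blk C ⊆ (D.line z y).erase z := fun u hu =>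
      Finset.mem_erase.2 ⟨fun e => (mem_sdiff.1 hu).2 (e ▸ hz), hall u (mem_sdiff.1 hu).2⟩
    have h1 := Finset.card_le_card hsub
    rw [Finset.card_univ_sdiff, D.card_blk, Finset.card_erase_of_mem (left_mem_line z y),
      card_line hzy] at h1
    obtain ⟨hq, -, -, hE, hn⟩ := D.params C
    have := D.two_le
    obtain ⟨r, hr⟩ : ∃ r, D.q = r + 1 := ⟨D.q - 1, by omega⟩
    rw [hE] at hn
    rw [hr, Nat.add_sub_cancel] at hn h1
    have h2 : 2 * r ≤ D.k * r := Nat.mul_le_mul_right _ this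
    omega
  have he₀ := step y hy he p₀ hp₀ hp₀l
  refine step p₀ hp₀ he₀ p hp fun hmem => hp₀l ?_
  have hzp : p ≠ z := fun e => hp (e ▸ hz)
  rw [← line_eq_of_mem hzy hpl hzp, line_eq_of_mem (fun e : z = p₀ => hp₀ (e ▸ hz)) hmem hzp]
  exact right_mem_line z p₀

section Model

variable {F : Type} [Field F] {m : ℕ} (M : D.Model F m)

/-- The permutation action of the special linear group on the points of the design. -/
noncomputable def slPerm : Matrix.SpecialLinearGroup (Fin (m + 1)) F →* Equiv.Perm Ω :=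
  (M.Ψ.symm.permCongrHom.toMonoidHom).comp
    (MulAction.toPermHom (Matrix.SpecialLinearGroup (Fin (m + 1)) F) (ℙ F (Fin (m + 1) → F)))

theorem slPerm_apply (s : Matrix.SpecialLinearGroup (Fin (m + 1)) F) (x : Ω) :
    slPerm M s x = M.Ψ.symm (s • M.Ψ x) := rfl

theorem mem_blk_slPerm (s : Matrix.SpecialLinearGroup (Fin (m + 1)) F) (x : Ω) (E : X) :
    slPerm M s x ∈ D.blk E ↔ M.hyp E ⬝ᵥ (s • (M.Ψ x).rep) = 0 := by
  rw [M.mem_iff, slPerm_apply, Equiv.apply_symm_apply]
  conv_lhs => rw [← Projectivization.mk_rep (M.Ψ x), Projectivization.smul_mk]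
  exact dot_rep_eq_zero_iff _ _ _

theorem exists_hyp [Finite F] (f : Fin (m + 1) → F) (hf : f ≠ 0) :
    ∃ C, ∀ v, f ⬝ᵥ v = 0 ↔ M.hyp C ⬝ᵥ v = 0 := by
  let g : X → ℙ F (Fin (m + 1) → F) := fun C => Projectivization.mk F (M.hyp C) (M.hyp_ne C)
  have hg : Function.Injective g := fun C E e => by
    obtain ⟨c, hc⟩ := (Projectivization.mk_eq_mk_iff' F _ _ _ _).1 e
    have hc0 : c ≠ 0 := fun e0 => M.hyp_ne C (by rw [← hc, e0, zero_smul])
    refine D.blk_inj (Finset.ext fun x => ?_)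
    rw [M.mem_iff, M.mem_iff, ← hc, smul_dotProduct, smul_eq_mul, mul_eq_zero]
    exact or_iff_right hc0
  have hb := hg.bijective_of_nat_card_le (by
    rw [← Nat.card_congr M.Ψ, Nat.card_eq_fintype_card, Nat.card_eq_fintype_card, D.card_eq])
  obtain ⟨C, hC⟩ := hb.2 (Projectivization.mk F f hf)
  obtain ⟨c, hc⟩ := (Projectivization.mk_eq_mk_iff' F _ _ _ _).1 hC
  have hc0 : c ≠ 0 := fun e0 => M.hyp_ne C (by rw [← hc, e0, zero_smul])
  refine ⟨C, fun v => ?_⟩
  rw [← hc, smul_dotProduct, smul_eq_mul, mul_eq_zero]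
  exact (or_iff_right hc0).symm

theorem transv_eq_elation [Finite F] (C : X) {a f : Fin (m + 1) → F} (ha : a ≠ 0)
    (haC : M.hyp C ⬝ᵥ a = 0) (hf : ∀ v, M.hyp C ⬝ᵥ v = 0 → f ⬝ᵥ v = 0) :
    ∃ h ∈ D.El C, slPerm M (transv a f (hf a haC)) = MulAction.toPermHom G Ω h := by
  set T := transv a f (hf a haC)
  set z := M.Ψ.symm (Projectivization.mk F a ha) with hzdef
  have hzblk : ∀ E, z ∈ D.blk E ↔ M.hyp E ⬝ᵥ a = 0 := fun E => by
    rw [M.mem_iff, hzdef, Equiv.apply_symm_apply, dot_rep_eq_zero_iff]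
  have hz : z ∈ D.blk C := (hzblk C).2 haC
  set τ := slPerm M T
  have hinc : ∀ E, ∃ E', ∀ x, x ∈ D.blk E' ↔ τ x ∈ D.blk E := by
    intro E
    set g := M.hyp E + (M.hyp E ⬝ᵥ a) • f with hg
    have hgT : ∀ v, g ⬝ᵥ v = M.hyp E ⬝ᵥ (T • v) := fun v => by
      rw [transv_smul, hg, dotProduct_add, add_dotProduct, smul_dotProduct, dotProduct_smul,
        smul_eq_mul, smul_eq_mul, mul_comm]
    have hg0 : g ≠ 0 := fun e0 => M.hyp_ne E (funext fun i => by
      have h1 := hgT (T⁻¹ • Pi.single i 1)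
      rw [e0, zero_dotProduct, smul_inv_smul, dotProduct_single, mul_one] at h1
      simpa using h1.symm)
    obtain ⟨E', hE'⟩ := exists_hyp M g hg0
    refine ⟨E', fun x => ?_⟩
    rw [M.mem_iff, ← hE', hgT]
    exact (mem_blk_slPerm M T x E).symm
  have hax : ∀ x ∈ D.blk C, τ x = x := by
    intro x hx
    show slPerm M T x = x
    rw [slPerm_apply]
    conv_lhs => arg 2; rw [← Projectivization.mk_rep (M.Ψ x), Projectivization.smul_mk]
    rw [Equiv.symm_apply_eq]
    refine Eq.trans ?_ (Projectivization.mk_rep (M.Ψ x))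
    congr 1
    rw [transv_smul, hf _ ((M.mem_iff C x).1 hx), zero_smul, add_zero]
  have hctr : ∀ E, z ∈ D.blk E → ∀ x, x ∈ D.blk E → τ x ∈ D.blk E := by
    intro E hE x hx
    refine (mem_blk_slPerm M T x E).2 ?_
    rw [transv_smul, dotProduct_add, (M.mem_iff E x).1 hx, zero_add, dotProduct_smul,
      (hzblk E).1 hE, smul_zero]
  obtain ⟨y, hy⟩ := D.exists_not_mem_blk C
  have hty : τ y ∉ D.blk C := fun e => hy (τ.injective (hax _ e) ▸ e)
  obtain ⟨h, hh, he⟩ := el_regular hy hty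
  have hhz : h ∈ D.Pc C z :=
    mem_pc_of_line hh hy hz (by rw [he]; exact mem_line.2 fun E a b => hctr E a y b)
  refine ⟨h, hh, Equiv.ext fun p => ?_⟩
  exact (persp_eq hhz hz τ τ.injective hinc hax hctr hy he p).symm

theorem elation_eq_transv [Finite F] {C : X} {h : G} (hh : h ∈ D.El C) :
    MulAction.toPermHom G Ω h ∈ (slPerm M).range := by
  by_cases h1 : h = 1
  · rw [h1, map_one]; exact one_mem _
  obtain ⟨z, hz, hhz⟩ := exists_pc hh
  obtain ⟨y, hy⟩ := D.exists_not_mem_blk C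
  set a := (M.Ψ z).rep
  set v := (M.Ψ y).rep
  set w := (M.Ψ (h • y)).rep
  obtain ⟨α, β, hw⟩ := mem_span_pair_of_dot a v w fun f hf fa fv => by
    obtain ⟨E, hE⟩ := exists_hyp M f hf
    rw [hE]
    refine (M.mem_iff E _).1 ?_
    exact mem_line.1 (pc_line hhz h1 hy).2 E ((M.mem_iff E z).2 ((hE a).1 fa))
      ((M.mem_iff E y).2 ((hE v).1 fv))
  have haC : M.hyp C ⬝ᵥ a = 0 := (M.mem_iff C z).1 hz
  have hv : M.hyp C ⬝ᵥ v ≠ 0 := fun e => hy ((M.mem_iff C y).2 e)
  have hβ : β ≠ 0 := by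
    intro e
    refine not_mem_base_smul (D.el_ax hh) hy ((M.mem_iff C (h • y)).2 ?_)
    show M.hyp C ⬝ᵥ w = 0
    rw [← hw, e, zero_smul, add_zero, dotProduct_smul, haC, smul_zero]
  set c := α / (β * (M.hyp C ⬝ᵥ v))
  obtain ⟨h', hh', he⟩ := transv_eq_elation M C (a := a) (f := c • M.hyp C)
    (Projectivization.rep_nonzero _) haC (fun u hu => by rw [smul_dotProduct, hu, smul_zero])
  have : h' = h := by
    refine el_cancel hh' hh hy ?_
    have e1 := congrArg (fun σ : Equiv.Perm Ω => σ y) he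
    simp only [MulAction.toPermHom_apply, MulAction.toPerm_apply] at e1
    rw [← e1, slPerm_apply]
    conv_lhs => arg 2; rw [← Projectivization.mk_rep (M.Ψ y), Projectivization.smul_mk]
    rw [Equiv.symm_apply_eq]
    refine Eq.trans ?_ (Projectivization.mk_rep (M.Ψ (h • y)))
    rw [Projectivization.mk_eq_mk_iff']
    refine ⟨β⁻¹, ?_⟩
    show β⁻¹ • w = _
    rw [transv_smul, ← hw, smul_dotProduct, smul_add, smul_smul, smul_smul, smul_eq_mul,
      inv_mul_cancel₀ hβ, one_smul, add_comm _ v]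
    congr 2
    show β⁻¹ * α = c * (M.hyp C ⬝ᵥ v)
    simp only [c]
    field_simp
  exact ⟨_, this ▸ he⟩

theorem map_elations [Finite F] (hm : 1 ≤ m) :
    (⨆ C, D.El C).map (MulAction.toPermHom G Ω) = (slPerm M).range := by
  have : Nontrivial (Fin (m + 1)) := Fin.nontrivial_iff_two_le.2 (by omega)
  refine le_antisymm ?_ ?_
  · rw [Subgroup.map_iSup, iSup_le_iff]
    rintro C _ ⟨h, hh, rfl⟩
    exact elation_eq_transv M hh
  · have key : ((⨆ C, D.El C).map (MulAction.toPermHom G Ω)).comap (slPerm M) = ⊤ := by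
      refine CfsgLib.Classical.closure_transvection_eq_top _ fun i j hij c => ?_
      rw [Subgroup.mem_comap]
      obtain ⟨C, hC⟩ := exists_hyp M (Pi.single j (1 : F)) (Pi.single_ne_zero_iff.2 one_ne_zero)
      have hf : ∀ v, M.hyp C ⬝ᵥ v = 0 → (c • Pi.single j (1 : F) : Fin (m + 1) → F) ⬝ᵥ v = 0 :=
        fun v hv => by rw [smul_dotProduct, (hC v).2 hv, smul_zero]
      have haC : M.hyp C ⬝ᵥ (Pi.single i (1 : F)) = 0 := (hC _).1 (by simp [hij.symm])
      obtain ⟨h, hh, he⟩ :=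
        transv_eq_elation M C (Pi.single_ne_zero_iff.2 one_ne_zero) haC hf
      refine ⟨h, (le_iSup (fun C => D.El C) C) hh, ?_⟩
      rw [← he]
      congr 1
      refine CfsgLib.Classical.sl_ext_smul fun x => funext fun k => ?_
      rw [transv_smul, CfsgLib.Classical.transvection_smul_apply]
      simp [Pi.single_apply]
    rintro _ ⟨s, rfl⟩
    have := key.ge (Subgroup.mem_top s)
    exact this

include M in
theorem main [Fintype F] [Nonempty X] (hm : 1 ≤ m) :
    Nat.card Ω = (Fintype.card F ^ (m + 1) - 1) / (Fintype.card F - 1) ∧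
      ∃ N : Subgroup G, N.Normal ∧
        Nonempty (N ≃* Matrix.ProjectiveSpecialLinearGroup (Fin (m + 1)) F) ∧
        Subgroup.centralizer (N : Set G) = ⊥ := by
  constructor
  · have h1 := Projectivization.card F (Fin (m + 1) → F)
    rw [← Nat.card_congr M.Ψ, Nat.card_fun, Nat.card_eq_fintype_card (α := F),
      Nat.card_eq_fintype_card (α := Fin (m + 1)), Fintype.card_fin] at h1
    rw [h1, Nat.mul_div_cancel _ (by have := Fintype.one_lt_card (α := F); omega)]
  refine ⟨⨆ C, D.El C, ⟨fun n hn g => ?_⟩, ?_, ?_⟩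
  · have hle : (⨆ C, D.El C).map (MulAut.conj g).toMonoidHom ≤ ⨆ C, D.El C := by
      rw [Subgroup.map_iSup, iSup_le_iff]
      rintro C _ ⟨h, hh, rfl⟩
      exact Subgroup.mem_iSup_of_mem (g • C) (D.conj_mem_el hh)
    exact hle ⟨n, hn, rfl⟩
  · set N := ⨆ C, D.El C
    let ρ : Matrix.ProjectiveSpecialLinearGroup (Fin (m + 1)) F →* Equiv.Perm Ω :=
      (M.Ψ.symm.permCongrHom.toMonoidHom).comp Projectivization.PSLAction.toPermHom
    have hρ : Function.Injective ρ := M.Ψ.symm.permCongrHom.injective.comp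
      Matrix.ProjectiveSpecialLinearGroup.toPermHom_injective
    have hr : ρ.range = N.map (MulAction.toPermHom G Ω) := by
      rw [map_elations M hm]
      refine le_antisymm ?_ ?_
      · rintro _ ⟨s, rfl⟩
        induction s using QuotientGroup.induction_on with
        | H s => exact ⟨s, rfl⟩
      · rintro _ ⟨s, rfl⟩
        exact ⟨(s : Matrix.ProjectiveSpecialLinearGroup (Fin (m + 1)) F), rfl⟩
    have hinj : Function.Injective (MulAction.toPermHom G Ω) := MulAction.toPerm_injective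
    exact ⟨(N.equivMapOfInjective _ hinj).trans
      ((MulEquiv.subgroupCongr hr.symm).trans (MonoidHom.ofInjective hρ).symm)⟩
  · rw [Subgroup.eq_bot_iff_forall]
    intro g hg
    refine D.eq_one_of_fix_blocks fun B => ?_
    obtain ⟨h, hh, h1⟩ := (Subgroup.bot_or_exists_ne_one (D.El B)).resolve_left (D.el_ne_bot B)
    have hc := Subgroup.mem_centralizer_iff.1 hg h (Subgroup.mem_iSup_of_mem B hh)
    have hh' : h ∈ D.El (g • B) := by
      have := D.conj_mem_el (g := g) hh
      rwa [← hc, mul_inv_cancel_right] at this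
    refine D.blk_inj (Finset.ext fun x => ?_)
    rw [← D.el_fixed_iff hh' h1, D.el_fixed_iff hh h1]

end Model

end Dsgn

/-- An intransitive subgroup of index the degree in a two-transitive group which is unfaithful on
an orbit comes from a projective space. -/
theorem ito_unfaithful {G Ω : Type*} [Group G] [Finite G] [MulAction G Ω] [FaithfulSMul G Ω]
    [Finite Ω] (h2 : MulAction.IsMultiplyPretransitive G Ω 2) (H : Subgroup G)
    (hidx : H.index = Nat.card Ω) (hnt : ¬ MulAction.IsPretransitive H Ω)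
    (hfix : ∀ a : Ω, ∃ h : H, h • a ≠ a)
    (hunf : ∃ a : Ω, ∃ h : H, h ≠ 1 ∧ ∀ b ∈ MulAction.orbit H a, h • b = b) :
    ∃ (m : ℕ) (F : Type) (_ : Field F) (_ : Fintype F), 2 ≤ m ∧
      Nat.card Ω = (Fintype.card F ^ (m + 1) - 1) / (Fintype.card F - 1) ∧
      ∃ N : Subgroup G, N.Normal ∧
        Nonempty (N ≃* Matrix.ProjectiveSpecialLinearGroup (Fin (m + 1)) F) ∧
        Subgroup.centralizer (N : Set G) = ⊥ := by
  classical
  haveI := Fintype.ofFinite Ω
  haveI := Fintype.ofFinite (G ⧸ H)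
  obtain ⟨D⟩ := exists_dsgn h2 H hidx hnt hfix hunf
  obtain ⟨F, hF, hFt, m, hm, ⟨M⟩⟩ := Dsgn.exists_model (D := D)
  exact ⟨m, F, hF, hFt, hm, Dsgn.main M (by omega)⟩

end CfsgLib.ItoDesign
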